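import Groth.Agent.L26.PicSm.PointPic
import Groth.Agent.L26.Elliptic.GeomFibre
import Groth.Agent.L26.Elliptic.PicZero
import Groth.Agent.L26.AbDual.Additive
import Groth.Agent.S12409
import Mathlib.AlgebraicGeometry.Sites.Fpqc

/-!
# The degree zero part of the Picard scheme of a curve
-/

set_option autoImplicit false
set_option linter.style.haveILetI false
set_option linter.unusedSectionVars false
set_option backward.isDefEq.respectTransparency false
set_option backward.isDefEq.respectTransparency.types false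

universe u

open CategoryTheory CategoryTheory.Limits AlgebraicGeometry Opposite
open Groth.Agent.AbDualLib

noncomputable section

namespace Groth.Agent.L26.PicSm

open Groth.Agent.Elliptic
attribute [local instance] Groth.Agent.Elliptic.fibOver

variable {E S : Scheme.{u}} {f : E ⟶ S} [IsProper f] [SmoothOfRelativeDimension 1 f] [GeometricallyConnected f]

theorem euler_fibre_eq_iff {T : Over S} (L : (PicF.XT f T).Modules) (t : T.left) :
    Curv2.deg (T.left.residueField t) ((PicF.XTproj f T).fiber t)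
        ((Scheme.Modules.pullback ((PicF.XTproj f T).fiberι t)).obj L) 1 = 0 ↔
      FGA.eulerCharLE (T.left.residueField t) (FGA.fibreAt f T t).left (FGA.restrFibre f T t L) 1 -
        FGA.eulerCharLE (T.left.residueField t) (FGA.fibreAt f T t).left
          (Coh.structureModule (FGA.fibreAt f T t).left) 1 = 0 := by
  rw [Curv2.deg, Nat.cast_one, one_mul, ← eulerLE_eq (PicF.XTproj f T) t, ← eulerLE_eq (PicF.XTproj f T) t]
  rfl

variable {P P₀ : Over S} {φ : ∀ T : Over S, PicF.Cl (PicF.XT f T) → (T ⟶ P)}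
  {φ₀ : ∀ T : Over S, PicF.Cl (PicF.XT f T) → (T ⟶ P₀)}
  (hP : AbDual.IsRelPicK Scheme.fppfPrecoverage f P φ)
  (hP₀ : AbDual.IsRelPicZeroK Scheme.fppfPrecoverage f P₀ φ₀)
  {j : P₀ ⟶ P} (hj : ∀ (T : Over S) (c : PicF.Cl (PicF.XT f T)), AbDual.IsPicZeroCl f T c → φ₀ T c ≫ j = φ T c)
  {d : ↥P.left → ℤ}
  (hd : ∀ (T : Over S) (L : (PicF.XT f T).Modules), PicF.IsInvertible L → ∀ t : T.left,
    d ((φ T (PicF.cl L)).left.base t) =
      FGA.eulerCharLE (T.left.residueField t) (FGA.fibreAt f T t).left (FGA.restrFibre f T t L) 1 -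
        FGA.eulerCharLE (T.left.residueField t) (FGA.fibreAt f T t).left
          (Coh.structureModule (FGA.fibreAt f T t).left) 1)

theorem exists_point {Y : Scheme.{u}} {R : Presieve Y} (hR : R ∈ Scheme.fppfPrecoverage Y) (y : Y) :
    ∃ (U : Scheme.{u}) (u : U ⟶ Y), R u ∧ ∃ x : U, u x = y := by
  obtain ⟨_, _, ⟨hu⟩, x, hx⟩ := hR.1 y
  exact ⟨_, _, hu, x, hx⟩

include hP₀ hj hd in
theorem d_zero (p : P₀.left) : d (j.left p) = 0 := by
  obtain ⟨R, hR, hs⟩ := hP₀.locallySurjective P₀ (𝟙 _)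
  obtain ⟨U, u, hu, x, rfl⟩ := exists_point hR p
  obtain ⟨_, ⟨L, rfl, hL, ht⟩, e⟩ := hs u hu
  have h1 := hj _ _ ⟨L, rfl, hL, ht⟩
  rw [e, Category.comp_id] at h1
  have h2 : j.left (u x) = (φ (AbDual.ovr P₀ u) (PicF.cl L)).left x := by
    rw [← h1]; rfl
  rw [h2]
  exact (hd _ L hL x).trans ((euler_fibre_eq_iff L x).1 (deg_eq_zero_of_algTrivialAt _ x hL (ht x)))

include hP hP₀ hj in
theorem mono_left : Mono j.left := by
  refine ⟨fun {Z} a b hab => ?_⟩
  have hw : a ≫ P₀.hom = b ≫ P₀.hom := by rw [← Over.w j, ← Category.assoc, hab, Category.assoc]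
  let T : Over S := Over.mk (a ≫ P₀.hom)
  let α : T ⟶ P₀ := Over.homMk a rfl
  let β : T ⟶ P₀ := Over.homMk b hw.symm
  obtain ⟨R, hR, hs⟩ := hP₀.locallySurjective T α
  refine hom_ext_of_mem hR fun U u hu => ?_
  obtain ⟨c, hc, ec⟩ := hs u hu
  obtain ⟨R', hR', hs'⟩ := hP₀.locallySurjective (AbDual.ovr T u) (AbDual.ovrHom T u ≫ β)
  refine hom_ext_of_mem hR' fun V v hv => ?_
  obtain ⟨c', hc', ec'⟩ := hs' v hv
  let g : AbDual.ovr (AbDual.ovr T u) v ⟶ AbDual.ovr T u := AbDual.ovrHom _ v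
  have hc₁ : AbDual.IsPicZeroCl f _ (PicF.pullCl (PicF.XTmap f g) c) := isPicZeroCl_XTmap f g hc
  have e₁ : φ₀ _ (PicF.pullCl (PicF.XTmap f g) c) = g ≫ AbDual.ovrHom T u ≫ α := by
    rw [hP₀.natural _ _ g c hc, ec]
  have heq : φ₀ _ (PicF.pullCl (PicF.XTmap f g) c) ≫ j = φ₀ _ c' ≫ j := by
    rw [e₁, ec']
    simp only [Category.assoc]
    congr 2
    exact Over.OverMorphism.ext hab
  rw [hj _ _ hc₁, hj _ _ hc'] at heq
  obtain ⟨R'', hR'', hs''⟩ := hP.locallyInjective _ _ _ (isInvertibleCl_of_isPicZeroCl hc₁)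
    (isInvertibleCl_of_isPicZeroCl hc') heq
  refine hom_ext_of_mem hR'' fun W w hw => ?_
  have e₂ := congrArg (φ₀ _) (hs'' w hw)
  rw [hP₀.natural _ _ _ _ hc₁, hP₀.natural _ _ _ _ hc', e₁, ec'] at e₂
  exact congrArg CommaMorphism.left e₂

variable (d) in
/-- The degree zero locus. -/
def zeroLocus (hlc : IsLocallyConstant d) : P.left.Opens := ⟨d ⁻¹' {0}, hlc {0}⟩

include hP hP₀ hj hd in
/-- The morphism from the degree zero part is an open and closed immersion. -/
theorem isImmersion_left (hlc : IsLocallyConstant d) : IsOpenImmersion j.left ∧ IsClosedImmersion j.left := by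
  haveI := mono_left hP hP₀ hj
  let U : P.left.Opens := zeroLocus d hlc
  have hr : Set.range j.left ⊆ Set.range U.ι := by
    rintro _ ⟨p, rfl⟩
    rw [Scheme.Opens.range_ι]
    exact d_zero hP₀ hj hd p
  let j₀ := IsOpenImmersion.lift U.ι j.left hr
  have hj₀ : j₀ ≫ U.ι = j.left := IsOpenImmersion.lift_fac _ _ _
  haveI : Mono j₀ := mono_of_mono_fac hj₀
  let W : Over S := Over.mk (U.ι ≫ P.hom)
  let ιU : W ⟶ P := Over.homMk U.ι rfl
  obtain ⟨R, hR, hs⟩ := hP.locallySurjective W ιU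
  choose Z z hz using fun y : W.left => exists_point hR y
  choose hzR x hx using hz
  let V : Scheme.{u} := ∐ Z
  let v : V ⟶ (U : Scheme.{u}) := Limits.Sigma.desc z
  haveI : ∀ y, Flat (z y) := fun y => (hR.2 (hzR y)).1
  haveI : ∀ y, LocallyOfFinitePresentation (z y) := fun y => (hR.2 (hzR y)).2
  haveI : Flat v := IsZariskiLocalAtSource.sigmaDesc fun t => (inferInstance : Flat (z t))
  haveI : LocallyOfFinitePresentation v :=
    IsZariskiLocalAtSource.sigmaDesc fun t => (inferInstance : LocallyOfFinitePresentation (z t))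
  haveI : Surjective v := Surjective.sigmaDesc_of_union_range_eq_univ
    (Set.eq_univ_iff_forall.2 fun t => Set.mem_iUnion.2 ⟨t, x t, hx t⟩)
  have hlift : ∀ y, ∃ l : Z y ⟶ P₀.left, l ≫ j.left = z y ≫ U.ι := by
    intro y
    obtain ⟨c, ⟨L, rfl, hL⟩, e⟩ := hs (z y) (hzR y)
    have hzero : AbDual.IsPicZeroCl f (AbDual.ovr W (z y)) (PicF.cl L) := by
      refine ⟨L, rfl, hL, fun t => algTrivialAt_of_deg_eq_zero _ hL t ?_⟩
      refine (euler_fibre_eq_iff L t).2 ((hd _ L hL t).symm.trans ?_)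
      rw [e]
      exact (z y t).2
    exact ⟨(φ₀ _ (PicF.cl L)).left, congrArg CommaMorphism.left ((hj _ _ hzero).trans e)⟩
  choose l hl using hlift
  let s : V ⟶ P₀.left := Limits.Sigma.desc l
  have hs₀ : s ≫ j₀ = v := by
    rw [← cancel_mono U.ι, Category.assoc, hj₀]
    refine Limits.Sigma.hom_ext _ _ fun y => ?_
    rw [Limits.Sigma.ι_desc_assoc, Limits.Sigma.ι_desc_assoc, hl y]
  let e : (U : Scheme.{u}) ⟶ P₀.left := EffectiveEpi.desc v s fun g₁ g₂ hg => by
    rw [← cancel_mono j₀, Category.assoc, Category.assoc, hs₀, hg]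
  have he : e ≫ j₀ = 𝟙 _ := by
    rw [← cancel_epi v, ← Category.assoc, EffectiveEpi.fac, hs₀, Category.comp_id]
  haveI : IsIso j₀ := ⟨e, by rw [← cancel_mono j₀, Category.assoc, he, Category.comp_id, Category.id_comp], he⟩
  rw [← hj₀]
  haveI : IsClosedImmersion U.ι := by
    refine IsClosedImmersion.of_isPreimmersion U.ι ?_
    rw [Scheme.Opens.range_ι]
    exact hlc.isClosed_fiber 0
  exact ⟨inferInstance, inferInstance⟩

end Groth.Agent.L26.PicSm
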