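import Groth.Agent.L26.PicSm.BaseChange
import Groth.Agent.S12404
import Groth.Agent.S3861
import Groth.Agent.L12.LineLift.IdealKer
import Groth.Agent.L19.VanishFibre.Main
import Groth.Agent.L20.DescLocus.AppIso
import Groth.Agent.L25.Locus.Smooth
import Groth.Agent.L26.Pic0.Edge
import Groth.Agent.L26.Pic0.DegreeFun

/-!
Smoothness of the relative Picard scheme of a family with fibres of dimension at most one.
-/

set_option autoImplicit false
set_option backward.isDefEq.respectTransparency false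
set_option backward.isDefEq.respectTransparency.types false
universe u
open CategoryTheory CategoryTheory.Limits AlgebraicGeometry

namespace Groth.Agent.L26.PicSm

/-- The square of the ideal sheaf of `Spec (A/I) ⟶ Spec A` vanishes when `I² = 0`. -/
theorem ker_specMap_sq (A : Type u) [CommRing A] (I : Ideal A) (hI : I ^ 2 = ⊥) :
    (Spec.map (CommRingCat.ofHom (Ideal.Quotient.mk I))).ker ^ 2 = ⊥ := by
  refine Scheme.IdealSheafData.ext_of_isAffine (le_bot_iff.1 ?_)
  rw [Scheme.IdealSheafData.ideal_pow, Pi.pow_apply, pow_two, Ideal.mul_le]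
  intro a ha b hb
  rw [Scheme.Hom.ker_apply] at ha hb
  have key : ∀ x : Γ(Spec (CommRingCat.of A), ⊤),
      (Spec.map (CommRingCat.ofHom (Ideal.Quotient.mk I))).appTop x = 0 →
        (Scheme.ΓSpecIso (CommRingCat.of A)).hom x ∈ I := by
    intro x hx
    have h := congr($(Scheme.ΓSpecIso_naturality (CommRingCat.ofHom (Ideal.Quotient.mk I))) x)
    refine Ideal.Quotient.eq_zero_iff_mem.1 (h.symm.trans ?_)
    show (Scheme.ΓSpecIso _).hom ((Spec.map (CommRingCat.ofHom (Ideal.Quotient.mk I))).appTop x) = 0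
    rw [hx, map_zero]
  have hab : (Scheme.ΓSpecIso (CommRingCat.of A)).hom (a * b) = 0 := by
    have : (Scheme.ΓSpecIso (CommRingCat.of A)).hom (a * b) ∈ I ^ 2 := by
      rw [pow_two, map_mul]
      exact Ideal.mul_mem_mul (key a (RingHom.mem_ker.1 ha)) (key b (RingHom.mem_ker.1 hb))
    rw [hI] at this
    exact (Submodule.mem_bot A).1 this
  show a * b ∈ (⊥ : (Spec (CommRingCat.of A)).IdealSheafData).ideal _
  have : a * b = 0 := (ConcreteCategory.bijective_of_isIso (Scheme.ΓSpecIso (CommRingCat.of A)).hom).1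
    (hab.trans (map_zero _).symm)
  rw [this]
  exact zero_mem _

/-- Second cohomology vanishes over an affine base if the fibres have dimension at most one. -/
theorem subsingleton_HH_two {A : CommRingCat.{u}} {Y : Scheme.{u}} (q : Y ⟶ Spec A) [IsProper q]
    (hd : ∀ t, topologicalKrullDim ↥(q.fiber t) ≤ 1) (M : Y.Modules) [Coh.IsQCoh M] :
    Subsingleton (Coh.HH Y M 2) := by
  haveI := Groth.L17.PushQCoh.hasInjectiveResolutions Y
  rw [Groth.Agent.Pic0.subsingleton_HH_iff q M 2, Groth.L21.Mod.isZero_iff_stalk_subsingleton]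
  intro t
  obtain ⟨V, ht, hV, h⟩ := Groth.L19.VanishFibre.exists_nhd_vanishing q t (d := 1) (by simpa using hd t)
  haveI : Coh.IsQCoh (Groth.L17.BC.FV q (V := V) M) := Scheme.Modules.isQuasicoherent_restrictFunctor _ M
  exact Groth.L19.VanishFibre.subsingleton_stalk_Rpush_of_affine q M hV ht 2
    (h _ (𝟙 _) _ 2 (by norm_num))

theorem dim_le {C S : Scheme.{u}} {f : C ⟶ S} [LocallyOfFiniteType f]
    (hd : ∀ s : S, topologicalKrullDim ↥(f.fiber s) ≤ 1) (T : Over S) (t : T.left) :
    topologicalKrullDim ↥((PicF.XTproj f T).fiber t) ≤ 1 := by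
  refine (Groth.L07.FibreDim.fiber_dim_le_iff (PicF.XTproj f T) t 1).2 fun x _ => ?_
  rw [Groth.L23.fibreDimAt_of_isPullback (IsPullback.of_hasPullback f T.hom) x]
  exact (Groth.L07.FibreDim.fiber_dim_le_iff f _ 1).1 (hd (f (pullback.fst f T.hom x))) _ rfl

theorem isPullback_XTmap {C S : Scheme.{u}} (f : C ⟶ S) {T T' : Over S} (g : T' ⟶ T) :
    IsPullback (PicF.XTmap f g) (PicF.XTproj f T') (PicF.XTproj f T) g.left := by
  refine IsPullback.of_right ?_ (by simp [PicF.XTmap, PicF.XTproj]) (IsPullback.of_hasPullback f T.hom)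
  simpa [PicF.XTmap, PicF.XTproj] using IsPullback.of_hasPullback f T'.hom

/-- Invertible classes lift along a square-zero thickening of an affine base. -/
theorem exists_lift_class {C S : Scheme.{u}} (f : C ⟶ S) [IsProper f]
    (hd : ∀ s : S, topologicalKrullDim ↥(f.fiber s) ≤ 1) {A : CommRingCat.{u}} (b : Spec A ⟶ S)
    (J : (Spec A).IdealSheafData) (hJ : J ^ 2 = ⊥)
    (c : PicF.Cl (PicF.XT f (Over.mk (J.subschemeι ≫ b)))) (hc : PicF.IsInvertibleCl c) :
    ∃ c' : PicF.Cl (PicF.XT f (Over.mk b)), PicF.IsInvertibleCl c' ∧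
      PicF.pullCl (PicF.XTmap f (Over.homMk J.subschemeι rfl : Over.mk (J.subschemeι ≫ b) ⟶ Over.mk b)) c' = c := by
  let q : PicF.XT f (Over.mk b) ⟶ Spec A := PicF.XTproj f (Over.mk b)
  let g : Over.mk (J.subschemeι ≫ b) ⟶ Over.mk b := Over.homMk J.subschemeι rfl
  haveI : IsProper q := inferInstanceAs (IsProper (pullback.snd f b))
  haveI : (PicF.XT f (Over.mk b)).IsSeparated := ⟨by
    rw [← terminal.comp_from q]; infer_instance⟩
  let K := J.comap q
  have hK : K ^ 2 = ⊥ := by
    rw [pow_two, ← Groth.Agent.S3861.result q J J, ← pow_two, hJ, Scheme.IdealSheafData.comap_bot]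
  let e : PicF.XT f (Over.mk (J.subschemeι ≫ b)) ≅ K.subscheme :=
    (isPullback_XTmap f g).isoPullback ≪≫ (J.comapIso q).symm
  have he : e.hom ≫ K.subschemeι = PicF.XTmap f g := by
    simp [e, K]
    exact (isPullback_XTmap f g).isoPullback_hom_fst
  obtain ⟨L₁, hL₁, hL₁i⟩ := PicLoc.isInvertibleCl_pullCl e.inv hc
  haveI := Groth.L12.LineLift.surjective_subschemeι K hK
  obtain ⟨N, hN, ε, hε⟩ := Groth.L12.LineLift.exists_cover K.subschemeι L₁ hL₁i
  have hNt : ∀ (k : ℕ) (a : Fin (k + 1) → PicF.XT f (Over.mk b)), IsAffineOpen (⨅ j, N (a j)) :=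
    fun k a => IsAffineOpen.iInf fun j => (hN _).2
  haveI : Coh.IsQCoh (ClSub.idealMod K) := Groth.L18.IdealModule.isQCoh_idealMod K
  have h2 : Subsingleton (Coh.HH (PicF.XT f (Over.mk b)) (ClSub.idealMod K) 2) :=
    subsingleton_HH_two q (fun t => dim_le hd (Over.mk b) t) _
  obtain ⟨L, hLi, hL⟩ := Groth.L12.LineLift.exists_lift (Groth.L12.LineLift.sqZero_subschemeι K hK)
    (fun a b => Groth.L12.LineLift.aff₂ N hNt a b) (fun x => ⟨x, (hN x).1⟩)
    (Groth.L12.LineLift.cob₂_subschemeι K N (Groth.L12.LineLift.iSup_eq_top_of_mem fun x => (hN x).1) hNt h2)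
    L₁ ε hε
  refine ⟨PicF.cl L, ⟨L, rfl, hLi⟩, ?_⟩
  have h : PicF.pullCl K.subschemeι (PicF.cl L) = PicF.pullCl e.inv c :=
    ((PicGrp.cl_eq_cl_iff _ _).2 hL).trans hL₁
  show PicF.pullCl (PicF.XTmap f g) _ = c
  rw [← he, PicLoc.pullCl_comp, h, ← PicLoc.pullCl_comp, Iso.hom_inv_id, PicLoc.pullCl_id]

/-- With a section, the representing scheme is formally smooth. -/
theorem isFormallySmoothHom_of_section {C S : Scheme.{u}} (f : C ⟶ S) [IsProper f]
    (hd : ∀ s : S, topologicalKrullDim ↥(f.fiber s) ≤ 1)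
    (σ : S ⟶ C) (hσ : σ ≫ f = 𝟙 S) (ha : ∀ (T : Over S) (U : T.left.Opens), IsIso ((PicF.XTproj f T).app U))
    (P : Over S) (φ : ∀ T : Over S, PicF.Cl (PicF.XT f T) → (T ⟶ P))
    (hP : AbDual.IsRelPicK Scheme.fppfPrecoverage f P φ) : MoreMor.IsFormallySmoothHom P.hom := by
  intro A _ I hI a b hab
  let m := Spec.map (CommRingCat.ofHom (Ideal.Quotient.mk I))
  haveI : IsClosedImmersion m := IsClosedImmersion.spec_of_surjective _ Ideal.Quotient.mk_surjective
  let J := m.ker
  let g : Over.mk (J.subschemeι ≫ b) ⟶ Over.mk b := Over.homMk J.subschemeι rfl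
  let a' : Over.mk (J.subschemeι ≫ b) ⟶ P := Over.homMk (inv m.toImage ≫ a) (by
    show (inv m.toImage ≫ a) ≫ P.hom = J.subschemeι ≫ b
    rw [Category.assoc, ← hab, ← Category.assoc]
    show (inv m.toImage ≫ m) ≫ b = _
    congr 1
    rw [IsIso.inv_comp_eq]
    exact m.toImage_imageι.symm)
  obtain ⟨c₀, hc₀⟩ := (Groth.Agent.S12404.result f σ hσ ha P φ hP (Over.mk (J.subschemeι ≫ b))).2 a'
  obtain ⟨c, hc, hcc⟩ := exists_lift_class f hd b J (ker_specMap_sq A I hI) c₀.1 c₀.2.1
  let l := φ (Over.mk b) c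
  refine ⟨l.left, ?_, Over.w l⟩
  have h0 : g ≫ φ (Over.mk b) c = a' := by
    rw [← hP.natural _ _ g c hc, hcc]
    exact hc₀
  have h' : J.subschemeι ≫ l.left = inv m.toImage ≫ a := congrArg CommaMorphism.left h0
  show m ≫ l.left = a
  calc m ≫ l.left = m.toImage ≫ J.subschemeι ≫ l.left := by
        rw [← Category.assoc]; congr 1; exact m.toImage_imageι.symm
    _ = a := by rw [h', IsIso.hom_inv_id_assoc]

/-- Smoothness of the relative Picard scheme. -/
theorem smooth_of_isRelPicK {C S : Scheme.{u}} (f : C ⟶ S)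
    [IsProper f] [Flat f] [LocallyOfFinitePresentation f] [GeometricallyReduced f] [GeometricallyConnected f]
    [Surjective f]
    (hd : ∀ s : S, topologicalKrullDim ↥(f.fiber s) ≤ 1)
    (P : Over S) (φ : ∀ T : Over S, PicF.Cl (PicF.XT f T) → (T ⟶ P))
    (hP : AbDual.IsRelPicK Scheme.fppfPrecoverage f P φ) [LocallyOfFinitePresentation P.hom] :
    Smooth P.hom := by
  refine MorphismProperty.of_pullback_snd_of_descendsAlong (P := @Smooth)
    (Q := (@Surjective ⊓ @Flat ⊓ @QuasiCompact : MorphismProperty Scheme.{u})) (g := f)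
    ⟨⟨inferInstance, inferInstance⟩, inferInstance⟩ ?_
  haveI : GeometricallyConnected (pullback.snd f f) :=
    MorphismProperty.of_isPullback (IsPullback.of_hasPullback f f) ‹GeometricallyConnected f›
  haveI : GeometricallyReduced (pullback.snd f f) :=
    MorphismProperty.of_isPullback (IsPullback.of_hasPullback f f) ‹GeometricallyReduced f›
  haveI : LocallyOfFinitePresentation (Over.mk (pullback.snd P.hom f)).hom :=
    inferInstanceAs (LocallyOfFinitePresentation (pullback.snd P.hom f))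
  show Smooth (Over.mk (pullback.snd P.hom f)).hom
  exact Groth.L25.Locus.smooth_of_formallySmooth _
    (isFormallySmoothHom_of_section (pullback.snd f f) (fun s => dim_le hd (Over.mk f) s)
      (pullback.lift (𝟙 C) (𝟙 C) rfl) (pullback.lift_snd _ _ _)
      (fun T U => Groth.L20.DescLocus.isIso_app_baseChange (pullback.snd f f) T.left T.hom U)
      _ _ (isRelPicK_baseChange f f P φ hP))

theorem surjective_of_dim_eq_one {C S : Scheme.{u}} (f : C ⟶ S)
    (hdim : ∀ s : S, topologicalKrullDim ↥(f.fiber s) = 1) : Surjective f := by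
  refine ⟨fun s => ?_⟩
  rcases isEmpty_or_nonempty ↥(f.fiber s) with h | ⟨⟨x⟩⟩
  · have := Groth.L06.Dim.eq_bot (X := ↥(f.fiber s))
    rw [hdim s] at this
    simp at this
  · exact ⟨(f.fiberι s) x, by
      have := Set.mem_range_self (f := f.fiberι s) x
      rw [f.range_fiberι s] at this
      exact this⟩

end Groth.Agent.L26.PicSm
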