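import Groth.Agent.L26.PicSm.AbelSurj
import Groth.Agent.L26.PicSm.OpenClosed
import Groth.Agent.L26.PicSm.Smooth
import Groth.Agent.L26.Pic0.DegreeFun
import Groth.Agent.L16.SecComp.Smooth
import Groth.Agent.S12413

/-!
# Properness and connectedness of Pic⁰ of a family of curves
-/

set_option autoImplicit false
set_option linter.style.haveILetI false
set_option linter.unusedSectionVars false
set_option backward.isDefEq.respectTransparency false
set_option backward.isDefEq.respectTransparency.types false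

universe u

open CategoryTheory CategoryTheory.Limits AlgebraicGeometry Opposite

noncomputable section

namespace Groth.Agent.L26.PicSm

open Groth.Agent.Elliptic
attribute [local instance] Groth.Agent.Elliptic.fibOver
attribute [local instance] Groth.L08.Cube.clMonoid

variable {E S : Scheme.{u}} {f : E ⟶ S} [IsProper f] [SmoothOfRelativeDimension 1 f] [GeometricallyConnected f]

theorem smooth_pw (n : ℕ) : Smooth (pw f n).hom := by
  haveI : Smooth f := SmoothOfRelativeDimension.smooth 1 f
  induction n with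
  | zero => exact ‹Smooth f›
  | succ n ih => exact inferInstanceAs (Smooth (pullback.fst (pw f n).hom f ≫ (pw f n).hom))

theorem geometricallyConnected_pw (n : ℕ) : GeometricallyConnected (pw f n).hom := by
  haveI : Smooth f := SmoothOfRelativeDimension.smooth 1 f
  induction n with
  | zero => exact ‹GeometricallyConnected f›
  | succ n ih =>
    haveI := smooth_pw (f := f) n
    exact GeometricallyConnected.comp (pullback.fst (pw f n).hom f) (pw f n).hom

theorem geometricallyIntegral : GeometricallyIntegral f := by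
  refine ⟨fun K _ y Y g q sq => ?_⟩
  haveI : IsProper q := MorphismProperty.of_isPullback (P := @IsProper) sq ‹IsProper f›
  haveI : Smooth q := MorphismProperty.of_isPullback (P := @Smooth) sq (SmoothOfRelativeDimension.smooth 1 f)
  haveI : GeometricallyConnected q := MorphismProperty.of_isPullback (P := @GeometricallyConnected) sq ‹_›
  letI : Y.Over (Spec (CommRingCat.of K)) := ⟨q⟩
  haveI : IsProper (Y ↘ Spec (CommRingCat.of K)) := ‹IsProper q›
  haveI : Smooth (Y ↘ Spec (CommRingCat.of K)) := ‹Smooth q›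
  haveI : ConnectedSpace ↥Y := GeometricallyConnected.connectedSpace_of_subsingleton q
  haveI := Groth.L21.RR.isNoetherian_of_proper (X := Y) K
  exact Groth.L21.NormalTotal.isIntegral_of_connected fun x =>
    Groth.L21.Smooth.isDomain_stalk (Y ↘ Spec (CommRingCat.of K)) x

/-- The Euler characteristic of the fibres. -/
theorem isLocallyConstant_euler : IsLocallyConstant fun s : S =>
    Curv2.euler (S.residueField s) (f.fiber s) (Coh.structureModule (f.fiber s)) := by
  haveI : Smooth f := SmoothOfRelativeDimension.smooth 1 f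
  have key := Groth.Agent.S1026.result f (Coh.structureModule E)
    (Groth.L18.LFP.isFP_of_isFinLocFree _ (Groth.L16.Existence.isFinLocFree_of_isInvertible
      (Groth.L18.Ample.isInvertible_structureModule E)))
    (Groth.Agent.Pic0.isFlatOver_of_isInvertible f (Groth.L18.Ample.isInvertible_structureModule E))
  convert key using 1
  funext s
  rw [Groth.Agent.DegreeFun.eulerChar_eq f (fun t => (dim_fibre f t).le), ← eulerLE_eq f s]
  exact (Groth.L17.Strat.eulerCharLE_iso (Groth.L29.LocFree.pullbackUnitIso (f.fiberι s)) 1).symm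

variable {P₀ : Over S} {φ₀ : ∀ T : Over S, PicF.Cl (PicF.XT f T) → (T ⟶ P₀)}
  (hP₀ : AbDual.IsRelPicZeroK Scheme.fppfPrecoverage f P₀ φ₀)

/-- The Abel map from a power. -/
def pwAbel (φ₀ : ∀ T : Over S, PicF.Cl (PicF.XT f T) → (T ⟶ P₀)) (n : ℕ) : pw f n ⟶ P₀ :=
  φ₀ (pw f n) (pwCl (f := f) n : PicF.Cl (PicF.XT f (pw f n)))

include hP₀ in
theorem exists_nhd_surj (s : S) : ∃ (V : S.Opens) (n : ℕ), s ∈ V ∧
    ∀ p : P₀.left, P₀.hom p ∈ V → ∃ w, (pwAbel φ₀ n).left w = p := by
  let e := fun s : S => Curv2.euler (S.residueField s) (f.fiber s) (Coh.structureModule (f.fiber s))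
  refine ⟨⟨e ⁻¹' {e s}, isLocallyConstant_euler {e s}⟩, (1 - e s).toNat, rfl, fun p hp => ?_⟩
  refine exists_pw_apply hP₀ p ?_
  rw [show Curv2.euler (S.residueField (P₀.hom p)) (f.fiber (P₀.hom p)) (Coh.structureModule _) = e s from hp]
  have := Int.self_le_toNat (1 - e s)
  omega

include hP₀ in
theorem isProper_hom [LocallyOfFiniteType P₀.hom] [IsSeparated P₀.hom] : IsProper P₀.hom := by
  choose V n hs hV using exists_nhd_surj hP₀
  refine (IsZariskiLocalAtTarget.iff_of_iSup_eq_top (P := @IsProper) V (eq_top_iff.2 fun s _ =>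
    TopologicalSpace.Opens.mem_iSup.2 ⟨s, hs s⟩)).2 fun i => ?_
  let A : (pw f (n i)).left ⟶ P₀.left := (pwAbel φ₀ (n i)).left
  have hA : A ≫ P₀.hom = (pw f (n i)).hom := Over.w _
  haveI : IsProper (A ≫ P₀.hom) := hA ▸ isProper_pw (n i)
  let a := A ∣_ (P₀.hom ⁻¹ᵁ V i)
  haveI : Surjective a := ⟨fun p => by
    obtain ⟨w, hw⟩ := hV i p.1 p.2
    refine ⟨⟨w, show A w ∈ P₀.hom ⁻¹ᵁ V i by rw [hw]; exact p.2⟩, ?_⟩
    exact Subtype.ext ((morphismRestrict_base_coe A _ _).trans hw)⟩
  haveI : IsProper (a ≫ P₀.hom ∣_ V i) := by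
    rw [show a ≫ P₀.hom ∣_ V i = (A ≫ P₀.hom) ∣_ V i from (morphismRestrict_comp A P₀.hom (V i)).symm]
    exact IsZariskiLocalAtTarget.restrict ‹IsProper (A ≫ P₀.hom)› _
  haveI : UniversallyClosed (P₀.hom ∣_ V i) := UniversallyClosed.of_comp_surjective a _
  haveI : LocallyOfFiniteType (P₀.hom ∣_ V i) := IsZariskiLocalAtTarget.restrict ‹_› _
  haveI : IsSeparated (P₀.hom ∣_ V i) := IsZariskiLocalAtTarget.restrict ‹_› _
  exact IsProper.mk

include hP₀ in
theorem geometricallyConnected_hom : GeometricallyConnected P₀.hom := by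
  refine ⟨fun K _ y Y g q sq => ?_⟩
  let s : S := y (IsLocalRing.closedPoint K)
  obtain ⟨V, n, hs, hV⟩ := exists_nhd_surj hP₀ s
  let A : (pw f n).left ⟶ P₀.left := (pwAbel φ₀ n).left
  haveI := smooth_pw (f := f) n
  haveI := geometricallyConnected_pw (f := f) n
  have hA : A ≫ P₀.hom = (pw f n).hom := Over.w _
  let Z := pullback (pw f n).hom y
  haveI : ConnectedSpace ↥(Spec (CommRingCat.of K)) := inferInstanceAs (ConnectedSpace (PrimeSpectrum K))
  haveI : ConnectedSpace ↥Z := inferInstance
  let b : Z ⟶ Y := sq.lift (pullback.fst _ _ ≫ A) (pullback.snd _ _)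
    (by rw [Category.assoc, hA, pullback.condition])
  have sqb : IsPullback (pullback.fst (pw f n).hom y) b A g := by
    refine IsPullback.of_bot (v₂₁ := q) (v₂₂ := P₀.hom) (h₃₁ := y) ?_ (sq.lift_fst _ _ _).symm sq
    rw [hA, sq.lift_snd]
    exact IsPullback.of_hasPullback _ _
  have hb : Function.Surjective b := by
    intro z
    have hz : P₀.hom (g z) = s := by
      rw [← Scheme.Hom.comp_apply, sq.w, Scheme.Hom.comp_apply]
      exact congrArg y (Subsingleton.elim (α := PrimeSpectrum K) _ _)
    obtain ⟨w, hw⟩ := hV (g z) (hz ▸ hs)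
    obtain ⟨v, -, hv⟩ := Scheme.Pullback.exists_preimage_pullback w z (f := A) (g := g) hw
    refine ⟨sqb.isoPullback.inv v, ?_⟩
    rw [← Scheme.Hom.comp_apply, sqb.isoPullback_inv_snd]
    exact hv
  exact hb.connectedSpace b.continuous

/-- Pic⁰ of a family of curves inside the Picard scheme. -/
theorem jacobian {P : Over S} {φ : ∀ T : Over S, PicF.Cl (PicF.XT f T) → (T ⟶ P)}
    (hP : AbDual.IsRelPicK Scheme.fppfPrecoverage f P φ) [LocallyOfFinitePresentation P.hom]
    (hP₀ : AbDual.IsRelPicZeroK Scheme.fppfPrecoverage f P₀ φ₀)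
    (j : P₀ ⟶ P) (hj : ∀ (T : Over S) (c : PicF.Cl (PicF.XT f T)), AbDual.IsPicZeroCl f T c → φ₀ T c ≫ j = φ T c)
    (hdim : ∀ s : S, topologicalKrullDim ↥(f.fiber s) = 1) :
    IsOpenImmersion j.left ∧ IsClosedImmersion j.left ∧ IsProper P₀.hom ∧ Smooth P₀.hom ∧
      GeometricallyConnected P₀.hom := by
  haveI : Smooth f := SmoothOfRelativeDimension.smooth 1 f
  obtain ⟨d, hlc, hd⟩ := Groth.Agent.S12409.result f hdim P φ hP
  obtain ⟨ho, hc⟩ := isImmersion_left hP hP₀ hj hd hlc
  haveI := ho
  haveI := hc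
  haveI : GeometricallyReduced f := Groth.L16.SecComp.geometricallyReduced_of_smooth f
  haveI : Surjective f := surjective_of_dim_eq_one f hdim
  haveI : GeometricallyIntegral f := geometricallyIntegral
  haveI : IsSeparated P.hom := Groth.Agent.S12413.result f P φ hP
  haveI : Smooth P.hom := smooth_of_isRelPicK f (fun s => (hdim s).le) P φ hP
  have hw : j.left ≫ P.hom = P₀.hom := Over.w j
  haveI : IsSeparated P₀.hom := by rw [← hw]; infer_instance
  haveI : Smooth P₀.hom := by rw [← hw]; infer_instance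
  haveI : LocallyOfFiniteType P₀.hom := by rw [← hw]; infer_instance
  exact ⟨ho, hc, isProper_hom hP₀, inferInstance, geometricallyConnected_hom hP₀⟩

end Groth.Agent.L26.PicSm
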