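import Groth.Agent.L26.PicSm.AbelFibre
import Groth.Agent.L26.PicSm.Jacobian
import Groth.Agent.L22.SchemeDim
import Groth.Agent.L22.FibreDim
import Groth.Agent.L15.CohFlat
import Groth.Agent.S3447

/-!
# The dimension of Pic⁰ of a curve over an algebraically closed field
-/

set_option autoImplicit false
set_option linter.style.haveILetI false
set_option linter.unusedSectionVars false
set_option backward.isDefEq.respectTransparency false
set_option backward.isDefEq.respectTransparency.types false

universe u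

open CategoryTheory CategoryTheory.Limits AlgebraicGeometry Opposite TopologicalSpace
open Groth.Agent.AbDualLib

noncomputable section

namespace Groth.Agent.L26.PicSm

open Groth.Agent.Elliptic

section Variety

attribute [local instance] Curv2.resAlgebra

variable (k : Type u) [Field k] {Z Q : Scheme.{u}} [Z.Over (Spec (CommRingCat.of k))]
  [Q.Over (Spec (CommRingCat.of k))] [LocallyOfFiniteType (Z ↘ Spec (CommRingCat.of k))]
  [LocallyOfFiniteType (Q ↘ Spec (CommRingCat.of k))]

omit [Q.Over (Spec (CommRingCat.of k))] [LocallyOfFiniteType (Q ↘ Spec (CommRingCat.of k))] in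
include k in
/-- The local rings at the closed points of a variety have the dimension of the variety. -/
theorem stalk_closed_dim [IsIntegral Z] {n : ℕ} (hdim : topologicalKrullDim Z = (n : WithBot ℕ∞)) {x : Z}
    (hx : IsClosed ({x} : Set Z)) : ringKrullDim (Z.presheaf.stalk x) = (n : WithBot ℕ∞) := by
  obtain ⟨a, c, ha, hc, hac⟩ := Groth.L22.SchemeDim.exists_localDim k Z x
  obtain ⟨a', ha', htr⟩ := Groth.L22.SchemeDim.exists_dim_closure_eq_trdeg k Z x
  obtain ⟨m, hm, -, hopen⟩ := Groth.L22.SchemeDim.exists_dim_eq_trdeg k Z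
  have hm2 : n = m := by exact_mod_cast hdim.symm.trans hm
  have hl : FlatMor.localDim Z x = (n : WithBot ℕ∞) := by
    refine le_antisymm ?_ (le_iInf fun U => ?_)
    · refine iInf_le_of_le ⟨⊤, trivial⟩ ?_
      rw [hm2, ← hopen ⊤ ⟨x, trivial⟩]
      exact le_rfl
    · rw [hm2, ← hopen U.1 ⟨x, U.2⟩]
      exact le_rfl
  rw [hx.closure_eq] at ha'
  have ha0 : a' = 0 := by
    have h0 : topologicalKrullDim ({x} : Set Z) = 0 :=
      le_antisymm (topologicalKrullDim_zero_of_discreteTopology _) (Groth.L03.Euler.zero_le_topologicalKrullDim (Set.singleton_nonempty x))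
    rw [h0] at ha'
    exact_mod_cast ha'.symm
  have haa : a = a' := by exact_mod_cast ha.symm.trans htr
  rw [hl] at hac
  have : n = a + c := by exact_mod_cast hac
  rw [hc, show c = n by omega]

/-- A surjective image has at most the dimension of the source. -/
theorem dim_le_of_surjective (a : Z ⟶ Q) (ha : a ≫ (Q ↘ Spec (CommRingCat.of k)) = Z ↘ Spec (CommRingCat.of k))
    (hs : Function.Surjective a) : topologicalKrullDim Q ≤ topologicalKrullDim Z := by
  refine iSup_le fun l => ?_
  obtain ⟨η, hη⟩ := QuasiSober.sober l.last.isIrreducible l.last.isClosed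
  obtain ⟨z, rfl⟩ := hs η
  obtain ⟨m, hm, htr⟩ := Groth.L22.SchemeDim.exists_dim_closure_eq_trdeg k Q (a z)
  obtain ⟨m', hm', htr'⟩ := Groth.L22.SchemeDim.exists_dim_closure_eq_trdeg k Z z
  have hle : (m : WithBot ℕ∞) ≤ (m' : WithBot ℕ∞) := by
    have h : (a.residueFieldMap z).hom.comp (Curv2.resMap k Q (a z)) = Curv2.resMap k Z z := by
      have h : CommRingCat.ofHom (Curv2.resMap k Q (a z)) ≫ a.residueFieldMap z =
          CommRingCat.ofHom (Curv2.resMap k Z z) := by
        apply Spec.map_injective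
        rw [Spec.map_comp, Groth.L22.FibreDim.SpecMap_resMap, Groth.L22.FibreDim.SpecMap_resMap,
          Scheme.Hom.SpecMap_residueFieldMap_fromSpecResidueField_assoc, ha]
      exact congrArg CommRingCat.Hom.hom h
    let e : Q.residueField (a z) →ₐ[k] Z.residueField z :=
      { (a.residueFieldMap z).hom with commutes' := fun c => RingHom.congr_fun h c }
    have := _root_.trdeg_le_of_injective e e.toRingHom.injective
    rw [htr, htr'] at this
    exact_mod_cast this
  calc (l.length : WithBot ℕ∞) ≤ topologicalKrullDim (closure ({a z} : Set Q)) :=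
        Groth.L06.Dim.length_le_of_last_subset l hη.def.ge
    _ = m := hm
    _ ≤ m' := hle
    _ = topologicalKrullDim (closure ({z} : Set Z)) := hm'.symm
    _ ≤ topologicalKrullDim Z := topologicalKrullDim_subspace_le Z _

end Variety

variable {E S : Scheme.{u}} {f : E ⟶ S} [IsProper f] [SmoothOfRelativeDimension 1 f] [GeometricallyConnected f]

theorem smoothOfRelativeDimension_pwBase : ∀ n : ℕ, SmoothOfRelativeDimension n (pwBase (f := f) n).left
  | 0 => inferInstanceAs (SmoothOfRelativeDimension 0 (𝟙 E))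
  | n + 1 => by
    haveI := smoothOfRelativeDimension_pwBase n
    haveI := smoothOfRelativeDimension_isStableUnderBaseChange.{u} 1
    haveI : SmoothOfRelativeDimension 1 (pullback.fst (pw f n).hom f) :=
      MorphismProperty.pullback_fst (P := @SmoothOfRelativeDimension 1) _ _ inferInstance
    have h : SmoothOfRelativeDimension (1 + n) (pullback.fst (pw f n).hom f ≫ (pwBase (f := f) n).left) :=
      smoothOfRelativeDimension_comp (n := 1) (m := n) (f := pullback.fst (pw f n).hom f) (pwBase (f := f) n).left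
    rw [Nat.add_comm 1 n] at h
    exact h

theorem geometricallyConnected_pwBase : ∀ n : ℕ, GeometricallyConnected (pwBase (f := f) n).left
  | 0 => ⟨fun K _ y Y g q sq => by
      haveI : IsIso q := sq.isIso_snd_of_isIso (inferInstanceAs (IsIso (𝟙 E)))
      haveI : ConnectedSpace ↥(Spec (CommRingCat.of K)) := inferInstanceAs (ConnectedSpace (PrimeSpectrum K))
      exact (asIso q).hom.homeomorph.connectedSpace_iff.2 inferInstance⟩
  | n + 1 => by
    haveI := geometricallyConnected_pwBase n
    haveI := smoothOfRelativeDimension_pwBase (f := f) n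
    haveI : Smooth (pwBase (f := f) n).left := SmoothOfRelativeDimension.smooth n _
    haveI : Smooth f := SmoothOfRelativeDimension.smooth 1 f
    exact GeometricallyConnected.comp (pullback.fst (pw f n).hom f) (pwBase (f := f) n).left

theorem isProper_pwBase (n : ℕ) : IsProper (pwBase (f := f) n).left := by
  have h : (pwBase (f := f) n).left ≫ f = (pw f n).hom := Over.w (pwBase (f := f) n)
  haveI : IsProper ((pwBase (f := f) n).left ≫ f) := h ▸ isProper_pw n
  exact IsProper.of_comp _ f

variable {K : Type u} [Field K] [IsAlgClosed K] (τ : Spec (CommRingCat.of K) ⟶ S)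

local notation "TK" => (Over.mk τ : Over S)

attribute [local instance] curveOver Groth.L08.Cube.clMonoid

variable {P₀ : Over S} {φ₀ : ∀ T : Over S, PicF.Cl (PicF.XT f T) → (T ⟶ P₀)}
  (hP₀ : AbDual.IsRelPicZeroK Scheme.fppfPrecoverage f P₀ φ₀)

include hP₀ in
/-- Points of `P₀` over an algebraically closed field come from a power, with given first coordinate. -/
theorem exists_pw_point (g : TK ⟶ P₀) (σ : TK ⟶ Over.mk f) {n : ℕ}
    (hn : 1 ≤ (n : ℤ) + Curv2.euler K (PicF.XT f TK) (Coh.structureModule _)) :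
    ∃ p : TK ⟶ pw f n, p ≫ pwBase n = σ ∧ p ≫ pwAbel φ₀ n = g := by
  obtain ⟨R, hR, hloc⟩ := hP₀.locallySurjective TK g
  obtain ⟨U, u, hu, i, hi⟩ := exists_rational_point_of_mem τ rfl hR
  obtain ⟨c, hc, hφc⟩ := hloc u hu
  have hg : φ₀ TK (PicF.pullCl (PicF.XTmap f i) c) = g := by
    rw [hP₀.natural _ _ i c hc, hφc, ← Category.assoc, hi, Category.id_comp]
  obtain ⟨p, hb, hp⟩ := exists_pw_of_isPicZeroCl τ (isPicZeroCl_XTmap f i hc) σ hn
  refine ⟨p, hb, ?_⟩
  rw [pwAbel, ← hP₀.natural _ _ p _ (isPicZeroCl_pwCl n), hp, hg]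

theorem euler_curve : Curv2.euler K (PicF.XT f TK) (Coh.structureModule _) =
    1 - (Curv2.genus K (PicF.XT f TK) : ℤ) := by
  haveI := curve_proper (f := f) τ
  haveI := curve_integral (f := f) τ
  rw [Groth.L21.RR.euler_eq K (curve_dim (f := f) τ).le, curve_h0 τ]
  rfl

/-- The Euler characteristic does not depend on the algebraically closed field. -/
theorem euler_extend {Ω : Type u} [Field Ω] [IsAlgClosed Ω] (h : Spec (CommRingCat.of Ω) ⟶ Spec (CommRingCat.of K)) :
    Curv2.euler Ω (PicF.XT f (Over.mk (h ≫ τ))) (Coh.structureModule _) =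
      Curv2.euler K (PicF.XT f TK) (Coh.structureModule _) := by
  letI : Algebra K Ω := (Spec.preimage h).hom.toAlgebra
  have hh : Spec.map (CommRingCat.ofHom (algebraMap K Ω)) = h := by
    rw [RingHom.algebraMap_toAlgebra, CommRingCat.ofHom_hom, Spec.map_preimage]
  haveI := curve_proper (f := f) τ
  haveI := curve_proper (f := f) (h ≫ τ)
  haveI := Groth.L21.RR.isNoetherian_of_proper (X := PicF.XT f TK) K
  let g : Over.mk (h ≫ τ) ⟶ TK := Over.homMk h rfl
  have sq : IsPullback (PicF.XTmap f g) (PicF.XT f (Over.mk (h ≫ τ)) ↘ Spec (CommRingCat.of Ω))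
      (PicF.XT f TK ↘ Spec (CommRingCat.of K)) (Spec.map (CommRingCat.ofHom (algebraMap K Ω))) := by
    rw [hh]
    exact isPullback_XTmap f g
  rw [← Groth.L21.RR.euler_pullback (K := Ω) (PicF.XTmap f g) sq
    (Groth.L16.CohClosedPush.isCoh_structure (X := PicF.XT f TK)),
    Groth.L21.RR.euler_congr Ω (Groth.L29.LocFree.pullbackUnitIso (PicF.XTmap f g))]

include hP₀ in
/-- The dimension of `P₀` over an algebraically closed field is the genus. -/
theorem dim_pullback [LocallyOfFiniteType P₀.hom] :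
    topologicalKrullDim ↥(pullback P₀.hom τ) = (Curv2.genus K (PicF.XT f TK) : WithBot ℕ∞) := by
  classical
  haveI := curve_proper (f := f) τ
  haveI := curve_smooth (f := f) τ
  haveI := curve_integral (f := f) τ
  haveI := Groth.L21.RR.isNoetherian_of_proper (X := PicF.XT f TK) K
  have hd := curve_dim (f := f) τ
  let g := Curv2.genus K (PicF.XT f TK)
  have hn : 1 ≤ (g : ℤ) + Curv2.euler K (PicF.XT f TK) (Coh.structureModule _) := by
    rw [euler_curve τ]; omega
  obtain ⟨N₀, hN₀, hdN₀, hh₀⟩ := Groth.L21.Duality.exists_h0_eq_one (k := K) hd (curve_h0 τ) g le_rfl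
  haveI := Groth.L21.Duality.nontrivial_of_h0_pos (k := K) (L := N₀) hh₀.ge
  obtain ⟨φN, hφN⟩ := Groth.L21.RR.exists_hom_ne_zero (L := N₀)
  haveI : JacobsonSpace ↥(PicF.XT f TK) := LocallyOfFiniteType.jacobsonSpace (PicF.XT f TK ↘ Spec (CommRingCat.of K))
  obtain ⟨P, -, hP⟩ := nonempty_inter_closedPoints (X := ↥(PicF.XT f TK)) (Z := Set.univ)
    ⟨genericPoint ↥(PicF.XT f TK), trivial⟩ isOpen_univ.isLocallyClosed
  let σ : TK ⟶ Over.mk f :=
    ptOf (T := TK) (pointOfClosedPoint (PicF.XT f TK ↘ Spec (CommRingCat.of K)) P hP) (pointOfClosedPoint_comp _ _ _)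
  obtain ⟨p₀, hp₀b, hp₀c⟩ := exists_lift_pw τ σ g N₀ hN₀ hdN₀ ⟨φN, hφN⟩
  -- the slice of the power
  haveI := smoothOfRelativeDimension_pwBase (f := f) g
  haveI := geometricallyConnected_pwBase (f := f) g
  haveI := isProper_pwBase (f := f) g
  haveI := smoothOfRelativeDimension_isStableUnderBaseChange.{u} g
  let Z := pullback (pwBase (f := f) g).left σ.left
  let zp : Z ⟶ Spec (CommRingCat.of K) := pullback.snd (pwBase (f := f) g).left σ.left
  letI : Z.Over (Spec (CommRingCat.of K)) := ⟨zp⟩
  haveI : SmoothOfRelativeDimension g zp := MorphismProperty.pullback_snd _ _ inferInstance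
  haveI : Smooth (Z ↘ Spec (CommRingCat.of K)) := (SmoothOfRelativeDimension.smooth g zp : _)
  haveI : IsProper (Z ↘ Spec (CommRingCat.of K)) := inferInstanceAs (IsProper (pullback.snd (pwBase (f := f) g).left σ.left))
  haveI : GeometricallyConnected zp := inferInstanceAs (GeometricallyConnected (pullback.snd (pwBase (f := f) g).left σ.left))
  haveI : ConnectedSpace ↥Z := GeometricallyConnected.connectedSpace_of_subsingleton zp
  haveI := Groth.L21.RR.isNoetherian_of_proper (X := Z) K
  haveI : IsIntegral Z := Groth.L21.NormalTotal.isIntegral_of_connected fun x =>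
    Groth.L21.Smooth.isDomain_stalk (Z ↘ Spec (CommRingCat.of K)) x
  have hZdim : topologicalKrullDim Z = (g : WithBot ℕ∞) := Groth.L03.SurfAdj.dim_of_relDim (k := K) zp g
  let Q := pullback P₀.hom τ
  let qQ : Q ⟶ Spec (CommRingCat.of K) := pullback.snd P₀.hom τ
  letI : Q.Over (Spec (CommRingCat.of K)) := ⟨qQ⟩
  haveI : LocallyOfFiniteType (Q ↘ Spec (CommRingCat.of K)) :=
    inferInstanceAs (LocallyOfFiniteType (pullback.snd P₀.hom τ))
  haveI : IsLocallyNoetherian Q := LocallyOfFiniteType.isLocallyNoetherian (Q ↘ Spec (CommRingCat.of K))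
  have hbase : (pwBase (f := f) g).left ≫ f = (pw f g).hom := Over.w (pwBase (f := f) g)
  have hA : (pwAbel φ₀ g).left ≫ P₀.hom = (pw f g).hom := Over.w (pwAbel φ₀ g)
  have hσw : σ.left ≫ f = τ := Over.w σ
  let a : Z ⟶ Q := pullback.lift (pullback.fst _ _ ≫ (pwAbel φ₀ g).left) zp (by
    rw [Category.assoc, hA, ← hbase, pullback.condition_assoc, hσw])
  have ha : a ≫ qQ = zp := pullback.lift_snd _ _ _
  -- geometric points
  have hsurj : Function.Surjective a := by
    intro x
    let Ω := AlgebraicClosure (Q.residueField x)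
    let ξ : Spec (CommRingCat.of Ω) ⟶ Q :=
      Spec.map (CommRingCat.ofHom (algebraMap (Q.residueField x) Ω)) ≫ Q.fromSpecResidueField x
    have hξ : ξ (IsLocalRing.closedPoint Ω) = x := by
      rw [Scheme.Hom.comp_apply]
      exact Scheme.fromSpecResidueField_apply x _
    let h := ξ ≫ qQ
    let gP : Over.mk (h ≫ τ) ⟶ P₀ := Over.homMk (ξ ≫ pullback.fst P₀.hom τ) (by
      show (ξ ≫ _) ≫ P₀.hom = h ≫ τ
      rw [Category.assoc, pullback.condition, ← Category.assoc])
    let σ' : Over.mk (h ≫ τ) ⟶ Over.mk f := (Over.homMk h rfl : Over.mk (h ≫ τ) ⟶ TK) ≫ σ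
    obtain ⟨p, hb, hp⟩ := exists_pw_point (h ≫ τ) hP₀ gP σ' (n := g) (by rw [euler_extend τ h]; exact hn)
    let v : Spec (CommRingCat.of Ω) ⟶ Z := pullback.lift p.left h (congrArg CommaMorphism.left hb)
    refine ⟨v (IsLocalRing.closedPoint Ω), ?_⟩
    rw [← Scheme.Hom.comp_apply, show v ≫ a = ξ from pullback.hom_ext (by
      rw [Category.assoc, pullback.lift_fst, pullback.lift_fst_assoc]
      exact congrArg CommaMorphism.left hp) (by
      rw [Category.assoc]
      exact (congrArg (v ≫ ·) (pullback.lift_snd _ _ _)).trans (pullback.lift_snd _ _ _))]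
    exact hξ
  refine le_antisymm ?_ ?_
  · rw [← hZdim]
    exact dim_le_of_surjective K a ha hsurj
  -- the special point
  let v₀ : Spec (CommRingCat.of K) ⟶ Z :=
    pullback.lift p₀.left (𝟙 _) ((congrArg CommaMorphism.left hp₀b).trans (Category.id_comp _).symm)
  have hv₀ : v₀ ≫ zp = 𝟙 _ := pullback.lift_snd _ _ _
  let w₀ : Z := v₀ (IsLocalRing.closedPoint K)
  have hw₀ : IsClosed ({w₀} : Set Z) := isClosed_point (k := K) (X := Z) v₀ hv₀
  have hx₀v : (v₀ ≫ a) ≫ qQ = 𝟙 _ := by rw [Category.assoc, ha, hv₀]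
  have hx₀ : IsClosed ({a w₀} : Set Q) := by
    have := ((pointEquivClosedPoint (Q ↘ Spec (CommRingCat.of K))) ⟨v₀ ≫ a, hx₀v⟩).2
    exact this
  let toP : {w : Z | IsClosed ({w} : Set Z)} → (TK ⟶ pw f g) := fun w =>
    Over.homMk (pointOfClosedPoint (Z ↘ Spec (CommRingCat.of K)) w.1 w.2 ≫ pullback.fst _ _) (by
      show (_ ≫ pullback.fst _ _) ≫ (pw f g).hom = τ
      rw [Category.assoc, ← hbase, pullback.condition_assoc, hσw, ← Category.assoc]
      show (pointOfClosedPoint (Z ↘ Spec (CommRingCat.of K)) w.1 w.2 ≫ (Z ↘ Spec (CommRingCat.of K))) ≫ τ = τ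
      rw [pointOfClosedPoint_comp, Category.id_comp])
  have htoP : ∀ w, toP w ≫ pwBase g = σ := fun w => Over.OverMorphism.ext (by
    show (_ ≫ pullback.fst _ _) ≫ (pwBase (f := f) g).left = σ.left
    rw [Category.assoc, pullback.condition, ← Category.assoc]
    show (pointOfClosedPoint (Z ↘ Spec (CommRingCat.of K)) w.1 w.2 ≫ (Z ↘ Spec (CommRingCat.of K))) ≫ σ.left = σ.left
    rw [pointOfClosedPoint_comp, Category.id_comp])
  have hfin : (a ⁻¹' {a w₀}).Finite := by
    have hcl : ∀ w ∈ (a ⁻¹' {a w₀}) ∩ closedPoints Z, ∀ hw : IsClosed ({w} : Set Z),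
        PicF.pullCl (PicF.XTmap f (toP ⟨w, hw⟩)) (pwCl (f := f) g : PicF.Cl (PicF.XT f (pw f g))) =
          PicF.cl N₀ * ((uI σ ^ g : (PicF.Cl (PicF.XT f TK))ˣ) : PicF.Cl (PicF.XT f TK)) := by
      rintro w ⟨hw1, -⟩ hw
      rw [← hp₀c]
      refine eq_of_point_eq τ hP₀ (isPicZeroCl_XTmap f _ (isPicZeroCl_pwCl g))
        (isPicZeroCl_XTmap f _ (isPicZeroCl_pwCl g)) ?_
      rw [hP₀.natural _ _ _ _ (isPicZeroCl_pwCl g), hP₀.natural _ _ _ _ (isPicZeroCl_pwCl g)]
      have key : pointOfClosedPoint (Z ↘ Spec (CommRingCat.of K)) w hw ≫ a = v₀ ≫ a := by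
        refine ext_of_apply_closedPoint_eq qQ ?_ hx₀v ?_
        · rw [Category.assoc, ha]; exact pointOfClosedPoint_comp _ _ _
        · rw [Scheme.Hom.comp_apply, pointOfClosedPoint_apply, Scheme.Hom.comp_apply]
          exact hw1
      have key' := congrArg (· ≫ pullback.fst P₀.hom τ) key
      simp only [Category.assoc, a, pullback.lift_fst] at key'
      refine Over.OverMorphism.ext ?_
      show (_ ≫ pullback.fst _ _) ≫ (pwAbel φ₀ g).left = p₀.left ≫ (pwAbel φ₀ g).left
      rw [Category.assoc, key']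
      show pullback.lift p₀.left (𝟙 _) _ ≫ _ ≫ _ = _
      rw [pullback.lift_fst_assoc]
    have hC : ((a ⁻¹' {a w₀}) ∩ closedPoints Z).Finite := by
      refine Set.Finite.of_finite_image (f := fun w => if hw : IsClosed ({w} : Set Z) then toP ⟨w, hw⟩ else p₀)
        ((finite_pw_fibre τ σ (n := g) hN₀ hh₀).subset ?_) fun w hw w' hw' e => ?_
      · rintro _ ⟨w, hw, rfl⟩
        have hwc : IsClosed ({w} : Set Z) := hw.2
        dsimp only
        rw [dif_pos hwc]
        exact ⟨htoP _, hcl w hw hwc⟩
      · have hwc : IsClosed ({w} : Set Z) := hw.2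
        have hwc' : IsClosed ({w'} : Set Z) := hw'.2
        dsimp only at e
        rw [dif_pos hwc, dif_pos hwc'] at e
        have e' : pointOfClosedPoint (Z ↘ Spec (CommRingCat.of K)) w hwc =
            pointOfClosedPoint (Z ↘ Spec (CommRingCat.of K)) w' hwc' :=
          pullback.hom_ext (congrArg CommaMorphism.left e)
            ((pointOfClosedPoint_comp (Z ↘ Spec (CommRingCat.of K)) w hwc).trans
              (pointOfClosedPoint_comp (Z ↘ Spec (CommRingCat.of K)) w' hwc').symm)
        have := congrArg (fun v => (v : Spec (CommRingCat.of K) ⟶ Z) (IsLocalRing.closedPoint K)) e'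
        simpa using this
    haveI : JacobsonSpace ↥Z := LocallyOfFiniteType.jacobsonSpace (Z ↘ Spec (CommRingCat.of K))
    have hF : IsClosed (a ⁻¹' {a w₀}) := hx₀.preimage a.continuous
    refine hC.subset fun w hw => ?_
    have h1 : w ∈ closure ((a ⁻¹' {a w₀}) ∩ closedPoints Z) := by
      rw [JacobsonSpace.closure_inter_closedPoints_eq_closure hF.isLocallyClosed, hF.closure_eq]
      exact hw
    have hC' : IsClosed ((a ⁻¹' {a w₀}) ∩ closedPoints Z) := by
      rw [← Set.biUnion_of_singleton ((a ⁻¹' {a w₀}) ∩ closedPoints Z)]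
      exact hC.isClosed_biUnion fun x hx => hx.2
    rwa [hC'.closure_eq] at h1
  haveI : CompactSpace ↥Z := QuasiCompact.compactSpace_of_compactSpace (Z ↘ Spec (CommRingCat.of K))
  haveI : QuasiCompact (a ≫ qQ) := by rw [ha]; exact inferInstanceAs (QuasiCompact (Z ↘ Spec (CommRingCat.of K)))
  haveI : QuasiCompact a := QuasiCompact.of_comp a qQ
  haveI : LocallyOfFiniteType (a ≫ qQ) := by
    rw [ha]; exact inferInstanceAs (LocallyOfFiniteType (Z ↘ Spec (CommRingCat.of K)))
  haveI : LocallyOfFiniteType a := locallyOfFiniteType_of_comp a qQ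
  haveI : Finite ↥(a.fiber (a w₀)) := by
    have h := hfin.preimage (f := a.fiberι (a w₀)) (a.fiberι (a w₀)).isEmbedding.injective.injOn
    rw [show (a.fiberι (a w₀)) ⁻¹' (a ⁻¹' {a w₀}) = Set.univ by
      rw [← Set.preimage_range (a.fiberι (a w₀)), a.range_fiberι]] at h
    exact Set.finite_univ_iff.1 h
  have hdimF : ringKrullDim ((a.fiber (a w₀)).presheaf.stalk (a.asFiber w₀)) ≤ 0 := by
    refine (Groth.L15.CohFlat.ringKrullDim_stalk_le _).trans ?_
    haveI : DiscreteTopology ↥(a.fiber (a w₀)) := by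
      haveI : T1Space ↥(a.fiber (a w₀)) := ⟨fun y => by
        have hy : a (a.fiberι (a w₀) y) = a w₀ := (a.range_fiberι (a w₀)).le ⟨y, rfl⟩
        have hcl : IsClosed ({a.fiberι (a w₀) y} : Set Z) := by
          haveI : JacobsonSpace ↥Z := LocallyOfFiniteType.jacobsonSpace (Z ↘ Spec (CommRingCat.of K))
          have hF : IsClosed (a ⁻¹' {a w₀}) := hx₀.preimage a.continuous
          have h1 : a.fiberι (a w₀) y ∈ closure ((a ⁻¹' {a w₀}) ∩ closedPoints Z) := by
            rw [JacobsonSpace.closure_inter_closedPoints_eq_closure hF.isLocallyClosed, hF.closure_eq]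
            exact hy
          have hC' : IsClosed ((a ⁻¹' {a w₀}) ∩ closedPoints Z) := by
            rw [← Set.biUnion_of_singleton ((a ⁻¹' {a w₀}) ∩ closedPoints Z)]
            exact (hfin.subset Set.inter_subset_left).isClosed_biUnion fun x hx => hx.2
          rw [hC'.closure_eq] at h1
          exact h1.2
        rw [← Set.preimage_image_eq {y} (a.fiberι (a w₀)).isEmbedding.injective, Set.image_singleton]
        exact hcl.preimage (a.fiberι (a w₀)).continuous⟩
      exact Finite.instDiscreteTopology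
    exact topologicalKrullDim_zero_of_discreteTopology _
  calc (g : WithBot ℕ∞) = ringKrullDim (Z.presheaf.stalk w₀) := (stalk_closed_dim K hZdim hw₀).symm
    _ ≤ ringKrullDim (Q.presheaf.stalk (a w₀)) + ringKrullDim ((a.fiber (a w₀)).presheaf.stalk (a.asFiber w₀)) :=
        Groth.Agent.S3447.result a w₀
    _ ≤ ringKrullDim (Q.presheaf.stalk (a w₀)) + 0 := by gcongr
    _ ≤ topologicalKrullDim Q := by rw [add_zero]; exact Groth.L15.CohFlat.ringKrullDim_stalk_le _

/-- The dimension of a scheme of finite type over a field is invariant under field extension. -/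
theorem dim_baseChange_field (k L : Type u) [Field k] [Field L] {F F' : Scheme.{u}}
    (π : F ⟶ Spec (CommRingCat.of k)) [LocallyOfFiniteType π] (ψ : CommRingCat.of k ⟶ CommRingCat.of L)
    (π' : F' ⟶ Spec (CommRingCat.of L)) (pr : F' ⟶ F) (hpb : IsPullback pr π' π (Spec.map ψ)) :
    topologicalKrullDim F' = topologicalKrullDim F := by
  have hle : ∀ {T : Scheme.{u}} (t : T), FlatMor.localDim T t ≤ topologicalKrullDim T := fun t =>
    iInf_le_of_le ⟨⊤, trivial⟩ (topologicalKrullDim_subspace_le _ _)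
  haveI : Surjective (Spec.map ψ) := ⟨fun x => ⟨IsLocalRing.closedPoint L, Subsingleton.elim (α := PrimeSpectrum k) _ x⟩⟩
  haveI : Surjective pr := MorphismProperty.of_isPullback hpb.flip ‹Surjective (Spec.map ψ)›
  refine le_antisymm (Groth.L07.FibreDim.dim_le_of_localDim_le _ fun x => ?_)
    (Groth.L07.FibreDim.dim_le_of_localDim_le _ fun y => ?_)
  · rw [Groth.L23.localDim_baseChange_field k L π ψ π' pr hpb x]
    exact hle _
  · obtain ⟨x, rfl⟩ := pr.surjective y
    rw [← Groth.L23.localDim_baseChange_field k L π ψ π' pr hpb x]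
    exact hle _

omit τ in
include hP₀ in
/-- The fibres of Pic⁰ have the dimension of the genus. -/
theorem dim_fiber [LocallyOfFiniteType P₀.hom] (s : S) :
    topologicalKrullDim ↥(P₀.hom.fiber s) = (CohIII.fiberRank f (Coh.structureModule E) 1 s : WithBot ℕ∞) := by
  let Ω := AlgebraicClosure (S.residueField s)
  letI := Groth.Agent.Elliptic.fibOver f s
  haveI : Smooth f := SmoothOfRelativeDimension.smooth 1 f
  have hgen : CohIII.fiberRank f (Coh.structureModule E) 1 s = Curv2.genus (S.residueField s) (f.fiber s) :=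
    Groth.L12.CurveFam.fiberRank_one_eq_genus f s
  have he := euler_extPt (f := f) (K := Ω) s
  rw [euler_curve (f := f) (extPt (S := S) s Ω)] at he
  haveI := isProper_fibre f s
  rw [Groth.L21.RR.euler_eq (S.residueField s) (Groth.Agent.Elliptic.dim_fibre f s).le, h0_fibre f s] at he
  have hg : Curv2.genus Ω (PicF.XT f (Over.mk (extPt (S := S) s Ω))) =
      Curv2.genus (S.residueField s) (f.fiber s) := by
    have : (Groth.L21.RR.h (S.residueField s) 1 (Coh.structureModule (f.fiber s)) : ℕ) =
      Curv2.genus (S.residueField s) (f.fiber s) := rfl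
    rw [this] at he
    omega
  rw [hgen, ← hg, ← dim_pullback (extPt (S := S) s Ω) hP₀]
  haveI : LocallyOfFiniteType (P₀.hom.fiberToSpecResidueField s) :=
    inferInstanceAs (LocallyOfFiniteType (pullback.snd P₀.hom _))
  exact (dim_baseChange_field (S.residueField s) Ω (P₀.hom.fiberToSpecResidueField s)
    (CommRingCat.ofHom (algebraMap (S.residueField s) Ω)) (pullback.snd P₀.hom (extPt (S := S) s Ω))
    (toFibre P₀.hom s Ω) (isPullback_toFibre P₀.hom s Ω)).symm

end Groth.Agent.L26.PicSm
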