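import Groth.Agent.L26.PicSm.Dimension
import Groth.Agent.L26.PicSm.OpenClosed
import Groth.Agent.L26.PicRep.GoodCl
import Groth.Agent.L26.Elliptic.PicZero

/-!
# A universal rigidified class of fibre degree zero represents the relative Pic⁰
-/

set_option autoImplicit false
set_option linter.style.haveILetI false
set_option linter.unusedSectionVars false
set_option backward.isDefEq.respectTransparency false
set_option backward.isDefEq.respectTransparency.types false

universe u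

open CategoryTheory CategoryTheory.Limits AlgebraicGeometry
open Groth.Agent.AbDualLib

noncomputable section

namespace Groth.Agent.L26.PicSm

open Groth.Agent.L26.PicRep

attribute [local instance] Groth.L08.Cube.clMonoid Groth.Agent.Elliptic.fibOver

variable {X S : Scheme.{u}} {f : X ⟶ S} [IsProper f] [SmoothOfRelativeDimension 1 f] [GeometricallyConnected f]
  {T T' : Over S}

theorem hasFibreDegreeZero_iff (L : (PicF.XT f T).Modules) :
    FGA.HasFibreDegreeZero f T L ↔ ∀ t : T.left, Curv2.deg (T.left.residueField t) ((PicF.XTproj f T).fiber t)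
      ((Scheme.Modules.pullback ((PicF.XTproj f T).fiberι t)).obj L) 1 = 0 :=
  forall_congr' fun t => by rw [euler_fibre_eq_iff, sub_eq_zero]

theorem isPicZeroCl_iff {c : PicF.Cl (PicF.XT f T)} :
    AbDual.IsPicZeroCl f T c ↔ PicF.IsInvertibleCl c ∧ FGA.HasFibreDegreeZeroCl f T c := by
  constructor
  · rintro ⟨L, rfl, hL, h⟩
    exact ⟨⟨L, rfl, hL⟩, L, rfl, (hasFibreDegreeZero_iff L).2 fun t =>
      Groth.Agent.Elliptic.deg_eq_zero_of_algTrivialAt _ t hL (h t)⟩
  · rintro ⟨hc, L, rfl, h⟩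
    have hL := isInvertible_of_isInvertibleCl hc
    exact ⟨L, rfl, hL, fun t =>
      Groth.Agent.Elliptic.algTrivialAt_of_deg_eq_zero _ hL t ((hasFibreDegreeZero_iff L).1 h t)⟩

variable (σ : S ⟶ X) (hσ : σ ≫ f = 𝟙 S)

/-- Normalising does not change the classes on the fibres. -/
theorem pullCl_fiberι_nrm {x : (PicF.Cl (PicF.XT f T))ˣ} (hx : x ∈ invU _) (t : T.left) :
    PicF.pullCl ((PicF.XTproj f T).fiberι t) (nrm σ hσ T x : PicF.Cl (PicF.XT f T)) =
      PicF.pullCl ((PicF.XTproj f T).fiberι t) (x : PicF.Cl (PicF.XT f T)) := by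
  let b := (sT σ hσ T x)⁻¹
  have hb : b ∈ invU _ := (invU _).inv_mem (map_mem_invU _ hx)
  haveI : Subsingleton ↥(Spec (T.left.residueField t)) := inferInstanceAs (Subsingleton (PrimeSpectrum _))
  have h1 : PicF.pullCl (T.left.fromSpecResidueField t) (b : PicF.Cl T.left) = 1 :=
    eq_oneCl_of_subsingleton (PicLoc.isInvertibleCl_pullCl _ hb.1)
  rw [nrm_def, ← map_inv, Units.val_mul, Groth.L08.Cube.pullCl_mul]
  show _ * PicF.pullCl _ (PicF.pullCl (PicF.XTproj f T) (b : PicF.Cl T.left)) = _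
  have e : (PicF.XTproj f T).fiberι t ≫ PicF.XTproj f T =
      (PicF.XTproj f T).fiberToSpecResidueField t ≫ T.left.fromSpecResidueField t := pullback.condition
  rw [← PicLoc.pullCl_comp, e, PicLoc.pullCl_comp, h1]
  exact (congrArg _ (pullCl_oneCl _)).trans (mul_one _)

theorem isPicZeroCl_nrm {x : (PicF.Cl (PicF.XT f T))ˣ}
    (hc : AbDual.IsPicZeroCl f T (x : PicF.Cl (PicF.XT f T))) (hx : x ∈ invU _) :
    AbDual.IsPicZeroCl f T (nrm σ hσ T x : PicF.Cl (PicF.XT f T)) := by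
  obtain ⟨L, hLx, hL, h⟩ := hc
  obtain ⟨M, hMx, hM⟩ := (nrm_mem σ hσ hx).1.1
  refine ⟨M, hMx, hM, fun t => Groth.Agent.Elliptic.algTrivialAt_of_deg_eq_zero _ hM t ?_⟩
  have e := pullCl_fiberι_nrm σ hσ hx t
  rw [← hMx, ← hLx] at e
  obtain ⟨i⟩ := (PicGrp.cl_eq_cl_iff _ _).1 e
  rw [Groth.L21.RR.deg_congr (T.left.residueField t) i 1]
  exact Groth.Agent.Elliptic.deg_eq_zero_of_algTrivialAt _ t hL (h t)

theorem isPicZeroCl_one : AbDual.IsPicZeroCl f T (1 : PicF.Cl (PicF.XT f T)) :=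
  ⟨_, rfl, Groth.L18.Ample.isInvertible_structureModule _, fun t =>
    Groth.Agent.Elliptic.algTrivialAt_of_deg_eq_zero _ (Groth.L18.Ample.isInvertible_structureModule _) t (by
      rw [Groth.L21.RR.deg_congr (T.left.residueField t) (Groth.L29.LocFree.pullbackUnitIso _) 1]
      simp [Curv2.deg])⟩

variable (f) in
/-- The unit attached to an invertible class, and one otherwise. -/
def toUnit (T : Over S) (c : PicF.Cl (PicF.XT f T)) : (PicF.Cl (PicF.XT f T))ˣ :=
  open Classical in if h : PicF.IsInvertibleCl c then (exists_invU h).choose else 1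

theorem toUnit_mem (c : PicF.Cl (PicF.XT f T)) : toUnit f T c ∈ invU _ := by
  unfold toUnit
  split_ifs with h
  · exact (exists_invU h).choose_spec.1
  · exact (invU _).one_mem

theorem val_toUnit {c : PicF.Cl (PicF.XT f T)} (h : PicF.IsInvertibleCl c) :
    (toUnit f T c : PicF.Cl (PicF.XT f T)) = c := by
  rw [toUnit, dif_pos h]
  exact (exists_invU h).choose_spec.2

variable (f) in
/-- The normalised class, and one if the class is not of degree zero. -/
def normCl (T : Over S) (c : PicF.Cl (PicF.XT f T)) : PicF.Rig f σ hσ T :=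
  open Classical in if AbDual.IsPicZeroCl f T c then
    ⟨(nrm σ hσ T (toUnit f T c) : PicF.Cl (PicF.XT f T)), (nrm_mem σ hσ (toUnit_mem c)).1.1,
      congrArg Units.val (nrm_mem σ hσ (toUnit_mem c)).2⟩
  else ⟨((1 : (PicF.Cl (PicF.XT f T))ˣ) : PicF.Cl (PicF.XT f T)), (rigSub f σ hσ T).one_mem.1.1,
      congrArg Units.val (rigSub f σ hσ T).one_mem.2⟩

theorem hasFibreDegreeZeroCl_normCl (c : PicF.Cl (PicF.XT f T)) :
    FGA.HasFibreDegreeZeroCl f T (normCl f σ hσ T c).1 := by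
  unfold normCl
  split_ifs with h
  · refine (isPicZeroCl_iff.1 (isPicZeroCl_nrm σ hσ ?_ (toUnit_mem c))).2
    rw [val_toUnit (isInvertibleCl_of_isPicZeroCl h)]
    exact h
  · exact (isPicZeroCl_iff.1 isPicZeroCl_one).2

variable {J : Over S} (ξ : PicF.Rig f σ hσ J)
  (huniv : ∀ (T : Over S) (c : PicF.Rig f σ hσ T), FGA.HasFibreDegreeZeroCl f T c.1 →
    ∃! g : T ⟶ J, PicF.pullCl (PicF.XTmap f g) ξ.1 = c.1)

/-- The classifying maps. -/
def classify (T : Over S) (c : PicF.Cl (PicF.XT f T)) : T ⟶ J :=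
  (huniv T (normCl f σ hσ T c) (hasFibreDegreeZeroCl_normCl σ hσ c)).choose

theorem pull_classify {c : PicF.Cl (PicF.XT f T)} (hc : AbDual.IsPicZeroCl f T c) :
    PicF.pullCl (PicF.XTmap f (classify σ hσ ξ huniv T c)) ξ.1 =
      (nrm σ hσ T (toUnit f T c) : PicF.Cl (PicF.XT f T)) := by
  refine ((huniv T _ (hasFibreDegreeZeroCl_normCl σ hσ c)).choose_spec.1).trans ?_
  rw [normCl, if_pos hc]

theorem eq_classify {c : PicF.Cl (PicF.XT f T)} (hc : AbDual.IsPicZeroCl f T c) (g : T ⟶ J)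
    (hg : PicF.pullCl (PicF.XTmap f g) ξ.1 = (nrm σ hσ T (toUnit f T c) : PicF.Cl (PicF.XT f T))) :
    classify σ hσ ξ huniv T c = g := by
  refine (huniv T _ (hasFibreDegreeZeroCl_normCl σ hσ c)).unique
    (huniv T _ (hasFibreDegreeZeroCl_normCl σ hσ c)).choose_spec.1 (hg.trans ?_)
  rw [normCl, if_pos hc]

theorem toUnit_mp (g : T' ⟶ T) {c : PicF.Cl (PicF.XT f T)} (hc : PicF.IsInvertibleCl c) :
    toUnit f T' (PicF.pullCl (PicF.XTmap f g) c) = mp f g (toUnit f T c) := by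
  refine Units.ext ?_
  rw [val_toUnit (PicLoc.isInvertibleCl_pullCl _ hc)]
  show _ = PicF.pullCl (PicF.XTmap f g) (toUnit f T c : PicF.Cl (PicF.XT f T))
  rw [val_toUnit hc]

variable (hξ : FGA.HasFibreDegreeZeroCl f J ξ.1)

include hξ in
/-- A universal rigidified class of fibre degree zero represents the relative Pic⁰. -/
theorem isRelPicZeroK :
    AbDual.IsRelPicZeroK Scheme.fppfPrecoverage f J (classify σ hσ ξ huniv) where
  natural T T' g c hc := by
    refine eq_classify σ hσ ξ huniv (isPicZeroCl_XTmap f g hc) _ ?_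
    rw [Groth.L02.Hilb.XTmap_comp f g, PicLoc.pullCl_comp, pull_classify σ hσ ξ huniv hc,
      toUnit_mp g (isInvertibleCl_of_isPicZeroCl hc), ← mp_nrm]
    rfl
  locallySurjective T g := by
    refine ⟨Presieve.singleton (𝟙 T.left), ?_, ?_⟩
    · exact Precoverage.HasIsos.mem_coverings_of_isIso _
    rintro U u ⟨⟩
    let h := AbDual.ovrHom T (𝟙 T.left) ≫ g
    have hξ₀ : AbDual.IsPicZeroCl f J ξ.1 := isPicZeroCl_iff.2 ⟨ξ.2.1, hξ⟩
    refine ⟨PicF.pullCl (PicF.XTmap f h) ξ.1, isPicZeroCl_XTmap f h hξ₀,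
      eq_classify σ hσ ξ huniv (isPicZeroCl_XTmap f h hξ₀) _ ?_⟩
    have hu : toUnit f J ξ.1 ∈ rigSub f σ hσ J :=
      ⟨toUnit_mem _, Units.ext (by
        show PicF.pullCl (PicF.secT f σ hσ J) (toUnit f J ξ.1 : PicF.Cl (PicF.XT f J)) = _
        rw [val_toUnit ξ.2.1]; exact ξ.2.2)⟩
    rw [toUnit_mp h ξ.2.1, ← mp_nrm, nrm_of_mem σ hσ hu]
    show _ = PicF.pullCl (PicF.XTmap f h) (toUnit f J ξ.1 : PicF.Cl (PicF.XT f J))
    rw [val_toUnit ξ.2.1]
  locallyInjective T c c' hc hc' h := by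
    have hn : nrm σ hσ T (toUnit f T c) = nrm σ hσ T (toUnit f T c') := by
      refine Units.ext ?_
      rw [← pull_classify σ hσ ξ huniv hc, h, pull_classify σ hσ ξ huniv hc']
    let x := toUnit f T c
    let y := toUnit f T c'
    have hxy : x⁻¹ * y ∈ Groth.Agent.Elliptic.baseSub f T := by
      rw [mem_baseSub_iff σ hσ ((invU _).mul_mem ((invU _).inv_mem (toUnit_mem c)) (toUnit_mem c')), map_mul,
        map_inv, hn, inv_mul_cancel]
    obtain ⟨M, hM, hm⟩ := hxy
    choose W e hW he using fun t : T.left => Groth.L18.Frame.exists_frame hM t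
    refine ⟨Presieve.ofArrows (fun t => (W t : Scheme.{u})) fun t => (W t).ι, ?_, ?_⟩
    · exact (Scheme.ofArrows_mem_precoverage_iff _).2 ⟨fun t => ⟨t, ⟨⟨t, hW t⟩, rfl⟩⟩, fun t =>
        ⟨(inferInstance : Flat (W t).ι), (inferInstance : LocallyOfFinitePresentation (W t).ι)⟩⟩
    rintro _ _ ⟨t⟩
    let h : AbDual.ovr T (W t).ι ⟶ T := AbDual.ovrHom T (W t).ι
    have htriv : PicF.pullCl (PicF.XTmap f h) ((x⁻¹ * y : (PicF.Cl (PicF.XT f T))ˣ) : PicF.Cl (PicF.XT f T)) = 1 := by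
      rw [hm]
      have hfr : Groth.L18.Frame.IsFrame ((Scheme.Modules.pullback (W t).ι).obj M) ((W t).ι ⁻¹ᵁ W t)
          (Groth.L18.Frame.pull (W t).ι M (W t) (e t)) := (he t).pullback (W t).ι M
      obtain ⟨i⟩ := Groth.L08.Cube.nonempty_iso_of_frame_top (hfr.mono (W t).ι_preimage_self.ge)
      exact cl_congr ((Scheme.Modules.pullbackComp _ _).app M ≪≫
        (Scheme.Modules.pullbackCongr (Groth.L02.Hilb.XTmap_snd f h)).app M ≪≫
        ((Scheme.Modules.pullbackComp _ _).app M).symm ≪≫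
        (Scheme.Modules.pullback (PicF.XTproj f (AbDual.ovr T (W t).ι))).mapIso i ≪≫
        Groth.L29.LocFree.pullbackUnitIso _)
    rw [← val_toUnit (isInvertibleCl_of_isPicZeroCl hc), ← val_toUnit (isInvertibleCl_of_isPicZeroCl hc')]
    show PicF.pullCl _ (x : PicF.Cl (PicF.XT f T)) = PicF.pullCl _ (y : PicF.Cl (PicF.XT f T))
    conv_rhs => rw [← mul_inv_cancel_left x y, Units.val_mul, Groth.L08.Cube.pullCl_mul, htriv, mul_one]

end Groth.Agent.L26.PicSm
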