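import Groth.Agent.L26.Elliptic.GroupLaw
import Groth.Agent.L26.Elliptic.RelDim
import Groth.Agent.L26.Pic13.CurvePicZero
import Groth.Agent.L26.AbDual.Cancel
import Groth.Agent.L26.AbDual.Classes
import Groth.Agent.L26.PicSm.Smooth
import Groth.Agent.L03.SurfAdj.Tools
import Groth.Agent.L12.HypSq.Curve

/-!
# Classes of differences of points and the tower of powers of a family of curves
-/

set_option autoImplicit false
set_option linter.style.haveILetI false
set_option linter.unusedSectionVars false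
set_option backward.isDefEq.respectTransparency false
set_option backward.isDefEq.respectTransparency.types false

universe u

open CategoryTheory CategoryTheory.Limits AlgebraicGeometry Opposite
open Groth.Agent.AbDualLib

noncomputable section

namespace Groth.Agent.L26.PicSm

open Groth.Agent.Elliptic
attribute [local instance] Groth.L08.Cube.clMonoid

section Field

variable {k : Type u} [Field k] [IsAlgClosed k] {X : Scheme.{u}} [X.Over (Spec (CommRingCat.of k))]
  [IsProper (X ↘ Spec (CommRingCat.of k))] [Smooth (X ↘ Spec (CommRingCat.of k))]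
  [IsIntegral X] (hd : topologicalKrullDim X = 1)

local notation "pX" => (X ↘ Spec (CommRingCat.of k))

omit [IsAlgClosed k] [IsProper (X ↘ Spec (CommRingCat.of k))] [Smooth (X ↘ Spec (CommRingCat.of k))] [IsIntegral X] in
theorem apply_point (y : Spec (CommRingCat.of k) ⟶ X) (a : Spec (CommRingCat.of k)) :
    y a = y (IsLocalRing.closedPoint k) :=
  congrArg y (Subsingleton.elim (α := PrimeSpectrum k) a _)

omit [IsAlgClosed k] [Smooth (X ↘ Spec (CommRingCat.of k))] [IsIntegral X] in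
theorem isClosed_point (y : Spec (CommRingCat.of k) ⟶ X) (hy : y ≫ pX = 𝟙 _) :
    IsClosed ({y (IsLocalRing.closedPoint k)} : Set X) := by
  haveI : IsClosedImmersion y := isClosedImmersion_of_comp_eq_id _ _ hy
  have : ({y (IsLocalRing.closedPoint k)} : Set X) = Set.range y := by
    ext x
    refine ⟨?_, ?_⟩
    · rintro rfl; exact ⟨_, rfl⟩
    · rintro ⟨a, rfl⟩; exact apply_point y a
  rw [this]
  exact y.isClosedEmbedding.isClosed_range

omit [IsAlgClosed k] [Smooth (X ↘ Spec (CommRingCat.of k))] [IsIntegral X] in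
theorem ker_point (y : Spec (CommRingCat.of k) ⟶ X) (hy : y ≫ pX = 𝟙 _) :
    y.ker = Scheme.IdealSheafData.vanishingIdeal ⟨{y (IsLocalRing.closedPoint k)}, isClosed_point y hy⟩ :=
  haveI : IsClosedImmersion y := isClosedImmersion_of_comp_eq_id _ _ hy
  Groth.L21.RR.ker_eq_vanishingIdeal_point k y (isClosed_point y hy) fun a => apply_point y a

include hd in
theorem algEquiv_sections (y z : Spec (CommRingCat.of k) ⟶ X) (hy : y ≫ pX = 𝟙 _) (hz : z ≫ pX = 𝟙 _)
    {D : X.Modules} (hD : PicF.IsInvertible D)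
    (e : CohB1.tensorMod (ClSub.idealMod z.ker) D ≅ Coh.structureModule X) :
    Pic13.IsAlgEquivZero k X (CohB1.tensorMod (ClSub.idealMod y.ker) D) := by
  rw [ker_point z hz] at e
  rw [ker_point y hy]
  exact Groth.Agent.CurvePicZero.algEquiv_point_diff (k := k) hd (isClosed_point y hy) (isClosed_point z hz) hD e

end Field

variable {E S : Scheme.{u}} {f : E ⟶ S} [IsProper f] [SmoothOfRelativeDimension 1 f] [GeometricallyConnected f]
  {T T' : Over S}

/-- The class `O(b) ⊗ O(a)⁻¹`. -/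
def diffCl (a b : T ⟶ Over.mk f) : (PicF.Cl (PicF.XT f T))ˣ := uI a * (uI b)⁻¹

theorem map_diffCl (h : T' ⟶ T) (a b : T ⟶ Over.mk f) :
    Units.map (Groth.L08.Cube.pullClHom (PicF.XTmap f h)) (diffCl a b) = diffCl (h ≫ a) (h ≫ b) := by
  rw [diffCl, diffCl, map_mul, map_inv, map_uI, map_uI]

theorem exists_diff_rep (a b : T ⟶ Over.mk f) :
    ∃ D : (PicF.XT f T).Modules, PicF.IsInvertible D ∧
      Nonempty (CohB1.tensorMod (ClSub.idealMod (sec b).ker) D ≅ Coh.structureModule _) ∧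
      (diffCl a b : PicF.Cl (PicF.XT f T)) = PicF.cl (CohB1.tensorMod (ClSub.idealMod (sec a).ker) D) := by
  obtain ⟨D, hD, ⟨e⟩⟩ := Groth.L08.Cube.exists_inverse (isInvertible_secIdeal b)
  refine ⟨D, hD, ⟨e⟩, ?_⟩
  rw [diffCl, Units.val_mul, val_uI, Units.inv_eq_of_mul_eq_one_right (u := uI b) (a := PicF.cl D) (cl_congr e)]
  rfl

/-- Differences of points are algebraically equivalent to zero. -/
theorem isPicZeroCl_diffCl (a b : T ⟶ Over.mk f) :
    AbDual.IsPicZeroCl f T (diffCl a b : PicF.Cl (PicF.XT f T)) := by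
  obtain ⟨D, hD, -, hc⟩ := exists_diff_rep a b
  refine ⟨_, hc.symm, Groth.L18.GenLoc.isInvertible_tensor (isInvertible_secIdeal a) hD,
    fun t Ω _ _ σ hσ => ?_⟩
  let T₁ : Over S := Over.mk (σ ≫ T.hom)
  let g : T₁ ⟶ T := Over.homMk σ rfl
  let X := PicF.XT f T₁
  let p : X ⟶ Spec (CommRingCat.of Ω) := PicF.XTproj f T₁
  letI : X.Over (Spec (CommRingCat.of Ω)) := ⟨p⟩
  haveI : SmoothOfRelativeDimension 1 p := smoothOfRelativeDimension_XTproj T₁
  haveI : Smooth (X ↘ Spec (CommRingCat.of Ω)) := (SmoothOfRelativeDimension.smooth 1 p : _)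
  haveI : IsProper (X ↘ Spec (CommRingCat.of Ω)) := inferInstanceAs (IsProper (pullback.snd f _))
  haveI : GeometricallyConnected p := inferInstanceAs (GeometricallyConnected (pullback.snd f _))
  haveI : ConnectedSpace ↥X := GeometricallyConnected.connectedSpace_of_subsingleton p
  haveI : IsIntegral X := Groth.L12.HypSq.isIntegral (k := Ω) (C := X)
  obtain ⟨D', hD', ⟨e'⟩, hc'⟩ := exists_diff_rep (g ≫ a) (g ≫ b)
  have h := algEquiv_sections (k := Ω) (Groth.L03.SurfAdj.dim_of_relDim p 1) (sec (g ≫ a)) (sec (g ≫ b))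
    (sec_proj _) (sec_proj _) hD' e'
  have hcl : PicF.pullCl (PicF.XTmap f g) (PicF.cl (CohB1.tensorMod (ClSub.idealMod (sec a).ker) D)) =
      PicF.cl (CohB1.tensorMod (ClSub.idealMod (sec (g ≫ a)).ker) D') := by
    rw [← hc, ← hc', ← map_diffCl]
    rfl
  obtain ⟨i⟩ := (PicGrp.cl_eq_cl_iff _ _).1 hcl
  let j : pullback (PicF.XTproj f T) σ ⟶ X := (isPullback_XTmap f g).isoPullback.inv
  have hj₁ : j ≫ PicF.XTmap f g = pullback.fst (PicF.XTproj f T) σ :=
    (isPullback_XTmap f g).isoPullback_inv_fst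
  have hj₂ : j ≫ p = pullback.snd (PicF.XTproj f T) σ := (isPullback_XTmap f g).isoPullback_inv_snd
  have key := @isAlgEquivZero_pullback Ω _ X _ ⟨p⟩ ⟨pullback.snd (PicF.XTproj f T) σ⟩ j hj₂ _ h
  obtain ⟨P, q, h1, h2, h3, M, hM, x, x₀, hx, hx₀, ⟨φ⟩, h4⟩ := key
  exact ⟨P, q, h1, h2, h3, M, hM, x, x₀, hx, hx₀,
    ⟨φ ≪≫ ((Scheme.Modules.pullback j).mapIso i.symm ≪≫ (Scheme.Modules.pullbackComp _ _).app _ ≪≫
      (Scheme.Modules.pullbackCongr hj₁).app _)⟩, h4⟩

variable (f) in
/-- The powers of the family. -/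
def pw : ℕ → Over S
  | 0 => Over.mk f
  | n + 1 => Over.mk (pullback.fst (pw n).hom f ≫ (pw n).hom)

/-- The projection dropping the last factor. -/
def pwPr (n : ℕ) : pw f (n + 1) ⟶ pw f n := Over.homMk (pullback.fst (pw f n).hom f) rfl

/-- The last factor. -/
def pwLast (n : ℕ) : pw f (n + 1) ⟶ Over.mk f :=
  Over.homMk (pullback.snd (pw f n).hom f) pullback.condition.symm

/-- The first factor. -/
def pwBase : ∀ n : ℕ, pw f n ⟶ Over.mk f
  | 0 => 𝟙 _
  | n + 1 => pwPr n ≫ pwBase n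

/-- The class of the difference of the points with multiples of the first one. -/
def pwCl : ∀ n : ℕ, (PicF.Cl (PicF.XT f (pw f n)))ˣ
  | 0 => 1
  | n + 1 => Units.map (Groth.L08.Cube.pullClHom (PicF.XTmap f (pwPr n))) (pwCl n) *
      diffCl (pwPr n ≫ pwBase n) (pwLast n)

theorem isPicZeroCl_pwCl : ∀ n : ℕ, AbDual.IsPicZeroCl f (pw f n) (pwCl (f := f) n : PicF.Cl (PicF.XT f (pw f n)))
  | 0 => isPicZeroCl_oneCl f _
  | n + 1 => isPicZeroCl_mulCl (isPicZeroCl_XTmap f (pwPr n) (isPicZeroCl_pwCl n)) (isPicZeroCl_diffCl _ _)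

theorem isProper_pw : ∀ n : ℕ, IsProper (pw f n).hom
  | 0 => ‹IsProper f›
  | n + 1 => by
    haveI := isProper_pw n
    exact inferInstanceAs (IsProper (pullback.fst (pw f n).hom f ≫ (pw f n).hom))

/-- Extend a point of a power by a point of the family. -/
def pwLift {n : ℕ} (p : T ⟶ pw f n) (y : T ⟶ Over.mk f) : T ⟶ pw f (n + 1) :=
  Over.homMk (pullback.lift p.left y.left ((Over.w p).trans (Over.w y).symm))
    (by
      show pullback.lift p.left y.left _ ≫ pullback.fst (pw f n).hom f ≫ (pw f n).hom = T.hom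
      rw [pullback.lift_fst_assoc]
      exact Over.w p)

theorem pwLift_pr {n : ℕ} (p : T ⟶ pw f n) (y : T ⟶ Over.mk f) : pwLift p y ≫ pwPr n = p :=
  Over.OverMorphism.ext (pullback.lift_fst _ _ _)

theorem pwLift_last {n : ℕ} (p : T ⟶ pw f n) (y : T ⟶ Over.mk f) : pwLift p y ≫ pwLast n = y :=
  Over.OverMorphism.ext (pullback.lift_snd _ _ _)

theorem pwLift_base {n : ℕ} (p : T ⟶ pw f n) (y : T ⟶ Over.mk f) :
    pwLift p y ≫ pwBase (n + 1) = p ≫ pwBase n := by
  show pwLift p y ≫ pwPr n ≫ pwBase n = _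
  rw [← Category.assoc, pwLift_pr]

theorem map_pwLift {n : ℕ} (p : T ⟶ pw f n) (y : T ⟶ Over.mk f) :
    Units.map (Groth.L08.Cube.pullClHom (PicF.XTmap f (pwLift p y))) (pwCl (n + 1)) =
      Units.map (Groth.L08.Cube.pullClHom (PicF.XTmap f p)) (pwCl n) * diffCl (p ≫ pwBase n) y := by
  rw [pwCl, map_mul, map_diffCl, ← Category.assoc, pwLift_pr, pwLift_last]
  congr 1
  refine Units.ext ?_
  show PicF.pullCl _ (PicF.pullCl _ _) = PicF.pullCl _ _
  rw [← PicLoc.pullCl_comp, ← XTmap_comp, pwLift_pr]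

end Groth.Agent.L26.PicSm
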