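import Groth.Agent.L26.PicSm.AbelSurj
import Groth.Agent.L21.Duality.SpecialApps

/-!
# Finiteness of the fibre of the Abel map at a class with one section
-/

set_option autoImplicit false
set_option linter.style.haveILetI false
set_option linter.unusedSectionVars false
set_option backward.isDefEq.respectTransparency false
set_option backward.isDefEq.respectTransparency.types false

universe u

open CategoryTheory CategoryTheory.Limits AlgebraicGeometry Opposite TopologicalSpace
open Groth.Agent.AbDualLib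

noncomputable section

namespace Groth.Agent.L26.PicSm

open Groth.Agent.Elliptic
open Groth.L21.RR (ptI)
attribute [local instance] Groth.L08.Cube.clMonoid

variable {E S : Scheme.{u}} {f : E ⟶ S} [IsProper f] [SmoothOfRelativeDimension 1 f] [GeometricallyConnected f]
variable {T : Over S}

/-- The coordinates of a point of a power after the first one. -/
def coordSet : ∀ n, (T ⟶ pw f n) → Set (T ⟶ Over.mk f)
  | 0, _ => ∅
  | n + 1, p => insert (p ≫ pwLast n) (coordSet n (p ≫ pwPr n))

theorem eq_pwLift {n : ℕ} (p : T ⟶ pw f (n + 1)) : p = pwLift (p ≫ pwPr n) (p ≫ pwLast n) :=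
  Over.OverMorphism.ext (pullback.hom_ext (pullback.lift_fst _ _ _).symm (pullback.lift_snd _ _ _).symm)

/-- Finitely many points have coordinates in a finite set. -/
theorem finite_coordSet (σ : T ⟶ Over.mk f) {B : Set (T ⟶ Over.mk f)} (hB : B.Finite) :
    ∀ n : ℕ, {p : T ⟶ pw f n | p ≫ pwBase n = σ ∧ coordSet n p ⊆ B}.Finite
  | 0 => (Set.finite_singleton σ).subset fun p hp => (Category.comp_id p).symm.trans hp.1
  | n + 1 => by
    refine (((finite_coordSet σ hB n).prod hB).image fun q => pwLift q.1 q.2).subset fun p hp => ?_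
    obtain ⟨h1, h2⟩ := hp
    refine ⟨⟨p ≫ pwPr n, p ≫ pwLast n⟩, ⟨⟨?_, fun y hy => h2 (Set.mem_insert_of_mem _ hy)⟩,
      h2 (Set.mem_insert _ _)⟩, (eq_pwLift p).symm⟩
    rw [Category.assoc]
    exact h1

theorem finite_of_isClosed_of_closedPoints {α : Type*} [TopologicalSpace α] [NoetherianSpace α] [QuasiSober α]
    {s : Set α} (hs : IsClosed s) (h : ∀ x ∈ s, IsClosed ({x} : Set α)) : s.Finite := by
  obtain ⟨A, hA, hAc, hAi, rfl⟩ := NoetherianSpace.exists_finite_set_isClosed_irreducible hs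
  refine hA.sUnion fun t ht => ?_
  obtain ⟨η, hη⟩ := QuasiSober.sober (hAi t ht) (hAc t ht)
  rw [← hη.def, (h η (Set.mem_sUnion.2 ⟨t, ht, hη.mem⟩)).closure_eq]
  exact Set.finite_singleton _

theorem monoid_step' {M : Type*} [CommMonoid M] (c d : M) (v w : Mˣ) (n : ℕ) (hw : (w : M) = d) :
    c * ((v ^ n : Mˣ) : M) * ((v * w : Mˣ) : M) = c * d * ((v ^ (n + 1) : Mˣ) : M) := by
  rw [pow_succ, Units.val_mul, Units.val_mul, hw]
  ac_rfl

variable {K : Type u} [Field K] [IsAlgClosed K] (τ : Spec (CommRingCat.of K) ⟶ S)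

local notation "TK" => (Over.mk τ : Over S)

/-- A geometric fibre over the field. -/
@[reducible] def curveOver : (PicF.XT f TK).Over (Spec (CommRingCat.of K)) := ⟨PicF.XTproj f TK⟩

attribute [local instance] curveOver

theorem curve_proper : IsProper (PicF.XT f TK ↘ Spec (CommRingCat.of K)) :=
  inferInstanceAs (IsProper (pullback.snd f _))

theorem curve_smooth : Smooth (PicF.XT f TK ↘ Spec (CommRingCat.of K)) := by
  haveI : SmoothOfRelativeDimension 1 (PicF.XTproj f TK) := smoothOfRelativeDimension_XTproj TK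
  exact (SmoothOfRelativeDimension.smooth 1 (PicF.XTproj f TK) : _)

theorem curve_integral : IsIntegral (PicF.XT f TK) := by
  haveI := curve_proper (f := f) τ
  haveI := curve_smooth (f := f) τ
  haveI : ConnectedSpace ↥(PicF.XT f TK) :=
    @GeometricallyConnected.connectedSpace_of_subsingleton _ (Spec (CommRingCat.of K)) (PicF.XTproj f TK)
      (inferInstanceAs (GeometricallyConnected (pullback.snd f τ))) _ _
  exact Groth.L12.HypSq.isIntegral (k := K) (C := PicF.XT f TK)

theorem curve_dim : topologicalKrullDim (PicF.XT f TK) = 1 := by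
  haveI := curve_integral (f := f) τ
  haveI : SmoothOfRelativeDimension 1 (PicF.XTproj f TK) := smoothOfRelativeDimension_XTproj TK
  exact Groth.L03.SurfAdj.dim_of_relDim (k := K) (PicF.XTproj f TK) 1

theorem curve_h0 : Groth.L21.RR.h K 0 (Coh.structureModule (PicF.XT f TK)) = 1 := by
  haveI := curve_proper (f := f) τ
  haveI := curve_smooth (f := f) τ
  haveI := curve_integral (f := f) τ
  haveI : ConnectedSpace ↥(PicF.XT f TK) := inferInstance
  exact Groth.L12.HypSq.h0_structure

/-- The closed point of a rational point. -/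
abbrev ptP (y : TK ⟶ Over.mk f) : PicF.XT f TK :=
  sec (T := TK) y (IsLocalRing.closedPoint K : (TK).left)

theorem ptI_eq (y : TK ⟶ Over.mk f) :
    ∃ hP : IsClosed ({ptP τ y} : Set (PicF.XT f TK)),
      ClSub.idealMod (sec (T := TK) y).ker = ptI (ptP τ y) hP := by
  haveI := curve_proper (f := f) τ
  haveI := curve_smooth (f := f) τ
  haveI := curve_integral (f := f) τ
  exact ⟨isClosed_point (k := K) (X := PicF.XT f TK) (sec y) (sec_proj y), by
    rw [ker_point (k := K) (X := PicF.XT f TK) (sec y) (sec_proj y)]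
    rfl⟩

theorem h_eq_of_cl {L L' : (PicF.XT f TK).Modules} (e : PicF.cl L = PicF.cl L') :
    Groth.L21.RR.h K 0 L = Groth.L21.RR.h K 0 L' :=
  Groth.L21.RR.h_congr K ((PicGrp.cl_eq_cl_iff _ _).1 e).some 0

/-- The class of a point of a power: an effective class, containing the coordinates. -/
theorem exists_rep (σ : TK ⟶ Over.mk f) : ∀ (n : ℕ) (p : TK ⟶ pw f n), p ≫ pwBase n = σ →
    ∃ N : (PicF.XT f TK).Modules, PicF.IsInvertible N ∧
      PicF.pullCl (PicF.XTmap f p) (pwCl (f := f) n : PicF.Cl (PicF.XT f (pw f n))) =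
        PicF.cl N * ((uI σ ^ n : (PicF.Cl (PicF.XT f TK))ˣ) : PicF.Cl (PicF.XT f TK)) ∧
      1 ≤ Groth.L21.RR.h K 0 N ∧
      ∀ y ∈ coordSet n p, 1 ≤ Groth.L21.RR.h K 0 (CohB1.tensorMod N (ClSub.idealMod (sec y).ker)) := by
  haveI := curve_proper (f := f) τ
  haveI := curve_smooth (f := f) τ
  haveI := curve_integral (f := f) τ
  have hd := curve_dim (f := f) τ
  intro n
  induction n with
  | zero =>
    intro p _
    refine ⟨Coh.structureModule _, Groth.L18.Ample.isInvertible_structureModule _, ?_,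
      (curve_h0 τ).ge, fun y hy => absurd hy (Set.notMem_empty y)⟩
    rw [pow_zero, Units.val_one, mul_one]
    exact Groth.L08.Cube.pullCl_one _
  | succ m ih =>
    intro p hp
    obtain ⟨N, hN, hc, hh, hco⟩ := ih (p ≫ pwPr m) (by rw [Category.assoc]; exact hp)
    let y := p ≫ pwLast m
    obtain ⟨hP, hI⟩ := ptI_eq τ y
    obtain ⟨D, hD, ⟨e⟩⟩ := Groth.L08.Cube.exists_inverse (isInvertible_secIdeal y)
    have hID : PicF.cl (ClSub.idealMod (sec y).ker) * PicF.cl D = 1 := cl_congr e
    have hu : (((uI y)⁻¹ : (PicF.Cl (PicF.XT f TK))ˣ) : PicF.Cl (PicF.XT f TK)) = PicF.cl D :=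
      Units.inv_eq_of_mul_eq_one_right (u := uI y) hID
    refine ⟨CohB1.tensorMod N D, Groth.L18.GenLoc.isInvertible_tensor hN hD, ?_, ?_, ?_⟩
    · show ((Units.map (Groth.L08.Cube.pullClHom (PicF.XTmap f p)) (pwCl (m + 1)) :
        (PicF.Cl (PicF.XT f TK))ˣ) : PicF.Cl (PicF.XT f TK)) = _
      rw [eq_pwLift p, map_pwLift, Units.val_mul]
      show PicF.pullCl _ (pwCl (f := f) m : PicF.Cl (PicF.XT f (pw f m))) * _ = _
      rw [hc, diffCl, show (p ≫ pwPr m) ≫ pwBase m = σ by rw [Category.assoc]; exact hp]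
      exact monoid_step' _ _ _ _ _ hu
    · have h1 := (Groth.L21.RR.twist_point K hd (Groth.L18.GenLoc.isInvertible_tensor hN hD) hP).2.2.2.1
      rw [← hI, h_eq_of_cl τ (L' := N) (show PicF.cl N * PicF.cl D * PicF.cl (ClSub.idealMod (sec y).ker) = PicF.cl N by
        rw [mul_assoc, mul_comm (PicF.cl D), hID, mul_one])] at h1
      exact hh.trans h1
    · rintro z (rfl | hz)
      · rw [h_eq_of_cl τ (L' := N) (show PicF.cl N * PicF.cl D * PicF.cl (ClSub.idealMod (sec y).ker) = PicF.cl N by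
          rw [mul_assoc, mul_comm (PicF.cl D), hID, mul_one])]
        exact hh
      · have h1 := (Groth.L21.RR.twist_point K hd (Groth.L18.GenLoc.isInvertible_tensor
          (Groth.L18.GenLoc.isInvertible_tensor hN hD) (isInvertible_secIdeal z)) hP).2.2.2.1
        rw [← hI, h_eq_of_cl τ (L' := CohB1.tensorMod N (ClSub.idealMod (sec z).ker))
          (show PicF.cl N * PicF.cl D * PicF.cl (ClSub.idealMod (sec z).ker) *
            PicF.cl (ClSub.idealMod (sec y).ker) = PicF.cl N * PicF.cl (ClSub.idealMod (sec z).ker) by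
            rw [mul_right_comm, mul_assoc (PicF.cl N), mul_comm (PicF.cl D), hID, mul_one])] at h1
        exact (hco z hz).trans h1

/-- The points in the divisors of a class with one section are finite in number. -/
theorem finite_base {N : (PicF.XT f TK).Modules} (hN : PicF.IsInvertible N)
    (h1 : Groth.L21.RR.h K 0 N = 1) :
    {y : TK ⟶ Over.mk f | 1 ≤ Groth.L21.RR.h K 0 (CohB1.tensorMod N (ClSub.idealMod (sec y).ker))}.Finite := by
  haveI := curve_proper (f := f) τ
  haveI := curve_smooth (f := f) τ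
  haveI := curve_integral (f := f) τ
  haveI := Groth.L21.RR.isNoetherian_of_proper (X := PicF.XT f TK) K
  have hd := curve_dim (f := f) τ
  haveI := Groth.L21.Duality.nontrivial_of_h0_pos (k := K) (L := N) h1.ge
  obtain ⟨φ, hφ⟩ := Groth.L21.RR.exists_hom_ne_zero (L := N)
  have hfin : ((CohB1.genLocus N φ : Set (PicF.XT f TK))ᶜ).Finite := by
    refine finite_of_isClosed_of_closedPoints (CohB1.genLocus N φ).2.isClosed_compl fun x hx => ?_
    by_contra hc
    exact hx ((Groth.L21.RR.mem_genLocus_iff hN φ x).2 (Groth.L21.RR.surjective_st_of_not_closed hd.le hN hφ hc))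
  refine Set.Finite.of_finite_image (f := fun y => ptP τ y) (hfin.subset ?_) fun y _ z _ hyz => ?_
  · rintro _ ⟨y, hy, rfl⟩ hmem
    obtain ⟨hP, hI⟩ := ptI_eq τ y
    have h := (Groth.L21.RR.twist_point K hd hN hP).2.2.2.2.2.2
      ⟨φ, (Groth.L21.RR.mem_genLocus_iff hN φ _).1 hmem⟩
    rw [← hI, h1] at h
    rw [Set.mem_setOf_eq] at hy
    omega
  · exact sec_injective (ext_of_apply_closedPoint_eq (PicF.XT f TK ↘ Spec (CommRingCat.of K))
      (sec_proj y) (sec_proj z) hyz)

/-- Finitely many points of a power give a class with one section. -/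
theorem finite_pw_fibre (σ : TK ⟶ Over.mk f) {n : ℕ} {N₀ : (PicF.XT f TK).Modules} (hN₀ : PicF.IsInvertible N₀)
    (h1 : Groth.L21.RR.h K 0 N₀ = 1) :
    {p : TK ⟶ pw f n | p ≫ pwBase n = σ ∧
      PicF.pullCl (PicF.XTmap f p) (pwCl (f := f) n : PicF.Cl (PicF.XT f (pw f n))) =
        PicF.cl N₀ * ((uI σ ^ n : (PicF.Cl (PicF.XT f TK))ˣ) : PicF.Cl (PicF.XT f TK))}.Finite := by
  refine (finite_coordSet σ (finite_base τ hN₀ h1) n).subset fun p hp => ⟨hp.1, fun y hy => ?_⟩
  obtain ⟨N, hN, hc, -, hco⟩ := exists_rep τ σ n p hp.1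
  have hcl : PicF.cl N = PicF.cl N₀ := (Units.mul_left_inj _).1 (hc.symm.trans hp.2)
  show 1 ≤ _
  rw [h_eq_of_cl τ (L := CohB1.tensorMod N₀ _) (L' := CohB1.tensorMod N (ClSub.idealMod (sec y).ker))
    (show PicF.cl N₀ * PicF.cl (ClSub.idealMod (sec y).ker) = PicF.cl N * PicF.cl (ClSub.idealMod (sec y).ker) by rw [hcl])]
  exact hco y hy

theorem exists_rational_point_of_mem {T₀ : Over S} (hT : T₀ = TK) {R : Presieve T₀.left}
    (hR : R ∈ Scheme.fppfPrecoverage T₀.left) :
    ∃ (U : Scheme.{u}) (u : U ⟶ T₀.left), R u ∧ ∃ i : T₀ ⟶ AbDual.ovr T₀ u, i ≫ AbDual.ovrHom T₀ u = 𝟙 T₀ := by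
  subst hT
  obtain ⟨_, _, ⟨hu⟩, u₀, -⟩ := hR.1 (IsLocalRing.closedPoint K : (TK).left)
  rename_i U u
  haveI : LocallyOfFinitePresentation u := (hR.2 hu).2
  haveI : JacobsonSpace ↥U :=
    LocallyOfFiniteType.jacobsonSpace (Y := Spec (CommRingCat.of K)) u
  obtain ⟨P, -, hP⟩ := nonempty_inter_closedPoints (X := ↥U) (Z := Set.univ) ⟨u₀, trivial⟩ isOpen_univ.isLocallyClosed
  let v : Spec (CommRingCat.of K) ⟶ U := pointOfClosedPoint u P hP
  have hv : v ≫ u = 𝟙 _ := pointOfClosedPoint_comp u P hP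
  refine ⟨U, u, hu, Over.homMk v (by
    show v ≫ u ≫ τ = τ
    rw [← Category.assoc, hv, Category.id_comp]), Over.OverMorphism.ext hv⟩

variable {P₀ : Over S} {φ₀ : ∀ T : Over S, PicF.Cl (PicF.XT f T) → (T ⟶ P₀)}
  (hP₀ : AbDual.IsRelPicZeroK Scheme.fppfPrecoverage f P₀ φ₀)

include hP₀ in
/-- Over an algebraically closed field the classes are determined by their points. -/
theorem eq_of_point_eq {c c' : PicF.Cl (PicF.XT f TK)} (hc : AbDual.IsPicZeroCl f TK c)
    (hc' : AbDual.IsPicZeroCl f TK c') (h : φ₀ TK c = φ₀ TK c') : c = c' := by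
  obtain ⟨R, hR, hloc⟩ := hP₀.locallyInjective TK c c' hc hc' h
  obtain ⟨U, u, hu, i, hi⟩ := exists_rational_point_of_mem τ rfl hR
  have e := congrArg (PicF.pullCl (PicF.XTmap f i)) (hloc u hu)
  have hid : PicF.XTmap f (𝟙 TK) = 𝟙 _ := by
    apply pullback.hom_ext
    · exact (Groth.Agent.AbDualLib.XTmap_fst f _).trans (Category.id_comp _).symm
    · exact (Groth.Agent.AbDualLib.XTmap_snd f _).trans ((Category.comp_id _).trans (Category.id_comp _).symm)
  rw [← PicLoc.pullCl_comp, ← PicLoc.pullCl_comp, ← XTmap_comp, hi, hid, PicLoc.pullCl_id, PicLoc.pullCl_id] at e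
  exact e

end Groth.Agent.L26.PicSm
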