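import Groth.Agent.L26.PicSm.PointPic
import Groth.Agent.L26.Elliptic.GeomFibre
import Groth.Agent.L26.AbDual.Additive
import Groth.Agent.L26.Pic13.TauChi
import Groth.Agent.L21.RR.Sections

/-!
# The powers of a curve surject onto its Pic⁰ on geometric points
-/

set_option autoImplicit false
set_option linter.style.haveILetI false
set_option linter.unusedSectionVars false
set_option backward.isDefEq.respectTransparency false
set_option backward.isDefEq.respectTransparency.types false

universe u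

open CategoryTheory CategoryTheory.Limits AlgebraicGeometry Opposite
open Groth.Agent.AbDualLib

noncomputable section

namespace Groth.Agent.L26.PicSm

open Groth.Agent.Elliptic
open Groth.L21.RR (ptI)
attribute [local instance] Groth.L08.Cube.clMonoid
attribute [local instance] Groth.Agent.Elliptic.fibOver

variable {E S : Scheme.{u}} {f : E ⟶ S} [IsProper f] [SmoothOfRelativeDimension 1 f] [GeometricallyConnected f]

theorem monoid_step {M : Type*} [CommMonoid M] (c : M) (u v : Mˣ) (n : ℕ) :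
    c * (u : M) * ((v ^ n : Mˣ) : M) * ((v * u⁻¹ : Mˣ) : M) = c * ((v ^ (n + 1) : Mˣ) : M) := by
  have h : u * v ^ n * (v * u⁻¹) = v ^ (n + 1) := by
    rw [mul_comm u, mul_assoc, mul_left_comm u v, mul_inv_cancel, mul_one, ← pow_succ]
  rw [mul_assoc c, ← Units.val_mul, mul_assoc c, ← Units.val_mul, h]

variable {K : Type u} [Field K] [IsAlgClosed K]

variable (τ : Spec (CommRingCat.of K) ⟶ S)

local notation "TK" => (Over.mk τ : Over S)

/-- An invertible module with a section, in terms of points. -/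
theorem exists_lift_pw (σ : TK ⟶ Over.mk f) : ∀ (n : ℕ) (N : (PicF.XT f TK).Modules), PicF.IsInvertible N →
    @Curv2.deg K _ (PicF.XT f TK) ⟨PicF.XTproj f TK⟩ N 1 = n →
    (∃ φ : Coh.structureModule (PicF.XT f TK) ⟶ N, φ ≠ 0) →
    ∃ p : TK ⟶ pw f n, p ≫ pwBase n = σ ∧
      PicF.pullCl (PicF.XTmap f p) (pwCl (f := f) n : PicF.Cl (PicF.XT f (pw f n))) =
        PicF.cl N * ((uI σ ^ n : (PicF.Cl (PicF.XT f TK))ˣ) : PicF.Cl (PicF.XT f TK)) := by
  let X := PicF.XT f TK
  let q : X ⟶ Spec (CommRingCat.of K) := PicF.XTproj f TK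
  letI : X.Over (Spec (CommRingCat.of K)) := ⟨q⟩
  haveI : SmoothOfRelativeDimension 1 q := smoothOfRelativeDimension_XTproj TK
  haveI : Smooth (X ↘ Spec (CommRingCat.of K)) := (SmoothOfRelativeDimension.smooth 1 q : _)
  haveI : IsProper (X ↘ Spec (CommRingCat.of K)) := inferInstanceAs (IsProper (pullback.snd f _))
  haveI : GeometricallyConnected q := inferInstanceAs (GeometricallyConnected (pullback.snd f _))
  haveI : ConnectedSpace ↥X := GeometricallyConnected.connectedSpace_of_subsingleton q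
  haveI : IsIntegral X := Groth.L12.HypSq.isIntegral (k := K) (C := X)
  haveI := Groth.L21.RR.isNoetherian_of_proper (X := X) K
  have hd : topologicalKrullDim X = 1 := Groth.L03.SurfAdj.dim_of_relDim q 1
  intro n
  induction n with
  | zero =>
    rintro N hN hn ⟨φ, hφ⟩
    refine ⟨σ, Category.comp_id σ, ?_⟩
    haveI := Groth.L21.RR.mono_of_ne_zero hN hφ
    have hall : ∀ x : X, Function.Surjective (Groth.L21.RR.st φ x) := by
      by_contra hc
      obtain ⟨P, hPs⟩ := not_forall.1 hc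
      have hP : IsClosed ({P} : Set X) := by
        by_contra hc
        exact hPs (Groth.L21.RR.surjective_st_of_not_closed hd.le hN hφ hc)
      obtain ⟨hN', -, hdeg', -⟩ := Groth.L21.RR.twist_point K hd hN hP
      obtain ⟨ψ, hψ⟩ := (Groth.L21.RR.isMinusPt_twι hN hP).exists_lift_section hN φ hPs
      have hψ0 : ψ ≠ 0 := fun h0 => hφ (by rw [← hψ, h0, zero_comp])
      have hge : 0 ≤ Curv2.deg K X (CohB1.tensorMod N (ptI P hP)) 1 :=
        (Int.natCast_nonneg _).trans_eq (Groth.L21.RR.deg_eq_h0_cokernel K hd.le hN' hψ0).symm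
      rw [hdeg', hn] at hge
      norm_num at hge
    haveI : Epi φ := (Groth.L21.Mod.epi_iff_stalk_surjective φ).2 hall
    haveI : IsIso φ := isIso_of_mono_of_epi φ
    rw [show PicF.cl N = (1 : PicF.Cl X) from (cl_congr (asIso φ)).symm, pow_zero, Units.val_one, one_mul]
    exact Groth.L08.Cube.pullCl_one _
  | succ m ih =>
    rintro N hN hn ⟨φ, hφ⟩
    haveI := Groth.L21.RR.mono_of_ne_zero hN hφ
    obtain ⟨P, hPs⟩ : ∃ P, ¬ Function.Surjective (Groth.L21.RR.st φ P) := by
      refine not_forall.1 fun hall => ?_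
      haveI : Epi φ := (Groth.L21.Mod.epi_iff_stalk_surjective φ).2 hall
      haveI : IsIso φ := isIso_of_mono_of_epi φ
      have h0 : Curv2.deg K X N 1 = 0 := by
        rw [← Groth.L21.RR.deg_congr K (asIso φ) 1, Curv2.deg]
        push_cast
        ring
      rw [hn] at h0
      omega
    have hP : IsClosed ({P} : Set X) := by
      by_contra hc
      exact hPs (Groth.L21.RR.surjective_st_of_not_closed hd.le hN hφ hc)
    obtain ⟨hN', -, hdeg', -⟩ := Groth.L21.RR.twist_point K hd hN hP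
    obtain ⟨ψ, hψ⟩ := (Groth.L21.RR.isMinusPt_twι hN hP).exists_lift_section hN φ hPs
    have hψ0 : ψ ≠ 0 := fun h0 => hφ (by rw [← hψ, h0, zero_comp])
    let y : TK ⟶ Over.mk f :=
      ptOf (T := TK) (pointOfClosedPoint (X ↘ Spec (CommRingCat.of K)) P hP) (pointOfClosedPoint_comp _ _ _)
    have hy : (uI y : PicF.Cl X) = PicF.cl (ptI P hP) := by
      rw [val_uI, sec_ptOf]
      haveI : IsClosedImmersion (pointOfClosedPoint (X ↘ Spec (CommRingCat.of K)) P hP) :=
        isClosedImmersion_of_comp_eq_id _ _ (pointOfClosedPoint_comp _ _ _)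
      rw [Groth.L21.RR.ker_eq_vanishingIdeal_point K _ hP fun a => pointOfClosedPoint_apply _ P hP a]
    obtain ⟨p, hp, hc⟩ := ih _ hN' (by rw [hdeg', hn]; push_cast; ring) ⟨ψ, hψ0⟩
    refine ⟨pwLift p y, (pwLift_base p y).trans hp, ?_⟩
    show ((Units.map (Groth.L08.Cube.pullClHom (PicF.XTmap f (pwLift p y))) (pwCl (m + 1)) :
      (PicF.Cl X)ˣ) : PicF.Cl X) = _
    rw [map_pwLift, Units.val_mul]
    show PicF.pullCl (PicF.XTmap f p) (pwCl (f := f) m : PicF.Cl (PicF.XT f (pw f m))) * _ = _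
    rw [hc, hp, show PicF.cl (CohB1.tensorMod N (ptI P hP)) = PicF.cl N * (uI y : PicF.Cl X) by rw [hy]; rfl]
    exact monoid_step _ _ _ _

/-- Degree zero classes come from the powers. -/
theorem exists_pw_of_isPicZeroCl {c : PicF.Cl (PicF.XT f TK)} (hc : AbDual.IsPicZeroCl f TK c)
    (σ : TK ⟶ Over.mk f) {n : ℕ}
    (hn : 1 ≤ (n : ℤ) + @Curv2.euler K _ (PicF.XT f TK) ⟨PicF.XTproj f TK⟩ (Coh.structureModule _)) :
    ∃ p : TK ⟶ pw f n, p ≫ pwBase n = σ ∧
      PicF.pullCl (PicF.XTmap f p) (pwCl (f := f) n : PicF.Cl (PicF.XT f (pw f n))) = c := by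
  let X := PicF.XT f TK
  let q : X ⟶ Spec (CommRingCat.of K) := PicF.XTproj f TK
  letI : X.Over (Spec (CommRingCat.of K)) := ⟨q⟩
  haveI : SmoothOfRelativeDimension 1 q := smoothOfRelativeDimension_XTproj TK
  haveI : Smooth (X ↘ Spec (CommRingCat.of K)) := (SmoothOfRelativeDimension.smooth 1 q : _)
  haveI : IsProper (X ↘ Spec (CommRingCat.of K)) := inferInstanceAs (IsProper (pullback.snd f _))
  haveI : GeometricallyConnected q := inferInstanceAs (GeometricallyConnected (pullback.snd f _))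
  haveI : ConnectedSpace ↥X := GeometricallyConnected.connectedSpace_of_subsingleton q
  haveI : IsIntegral X := Groth.L12.HypSq.isIntegral (k := K) (C := X)
  haveI := Groth.L21.RR.isNoetherian_of_proper (X := X) K
  have hd : topologicalKrullDim X = 1 := Groth.L03.SurfAdj.dim_of_relDim q 1
  obtain ⟨L, rfl, hL, htriv⟩ := hc
  have h0 : Curv2.deg K X L 1 = 0 := by
    let t : (TK).left := IsLocalRing.closedPoint K
    have hr : Set.range (𝟙 (TK).left : (TK).left ⟶ (TK).left).base = {t} :=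
      Set.eq_singleton_iff_unique_mem.2 ⟨⟨t, rfl⟩, fun x _ => Subsingleton.elim (α := PrimeSpectrum K) x t⟩
    let e : X ⟶ pullback q (𝟙 (TK).left) := pullback.lift (𝟙 X) q (by simp)
    have key := @isAlgEquivZero_pullback K _ _ X ⟨pullback.snd q (𝟙 (TK).left)⟩ _ e
      (pullback.lift_snd _ _ _) _ (htriv t K (𝟙 _) hr)
    have hL' := Groth.Agent.CurvePicZero.algEquiv_iso (k := K) (M := L)
      ((Scheme.Modules.pullbackComp e (pullback.fst q (𝟙 (TK).left))).app L ≪≫
        (Scheme.Modules.pullbackCongr (pullback.lift_fst _ _ _)).app L ≪≫ (Scheme.Modules.pullbackId X).app L) key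
    have h1 := Groth.Agent.Pic13Tau.chiTriv_of_algEquiv K hL' _ (Groth.L16.CohClosedPush.isCoh_structure (X := X))
    rw [Groth.L03.Euler.euler_iso (Groth.L00.Tensor.tensorUnitLeft _)] at h1
    rw [Curv2.deg, h1]
    push_cast
    ring
  let P : X := sec (T := TK) σ (IsLocalRing.closedPoint K : (TK).left)
  have hP : IsClosed ({P} : Set X) := isClosed_point (k := K) (X := X) (sec σ) (sec_proj σ)
  have hσ : (uI σ : PicF.Cl X) = PicF.cl (ptI P hP) := by
    rw [val_uI, ker_point (k := K) (X := X) (sec σ) (sec_proj σ)]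
    rfl
  obtain ⟨hI, hdI⟩ := Groth.L21.Duality.deg_ptI (k := K) hd hP
  rw [Groth.L21.RR.finrank_residueField_eq_one K hP] at hdI
  obtain ⟨D, hD, ⟨eD⟩⟩ := Groth.L08.Cube.exists_inverse hI
  have hdD : Curv2.deg K X D 1 = 1 := by
    have h1 := Groth.L21.Duality.deg_tensor (k := K) hd hI hD
    rw [Groth.L21.RR.deg_congr K eD 1, hdI, Curv2.deg] at h1
    push_cast at h1
    omega
  have hrep : ∀ m : ℕ, ∃ N : X.Modules, PicF.IsInvertible N ∧
      PicF.cl N * ((uI σ ^ m : (PicF.Cl X)ˣ) : PicF.Cl X) = PicF.cl L ∧ Curv2.deg K X N 1 = m := by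
    intro m
    induction m with
    | zero => exact ⟨L, hL, by rw [pow_zero, Units.val_one, mul_one], by simpa using h0⟩
    | succ m ih =>
      obtain ⟨N, hN, hc, hdN⟩ := ih
      refine ⟨CohB1.tensorMod N D, Groth.L18.GenLoc.isInvertible_tensor hN hD, ?_, ?_⟩
      · rw [show PicF.cl (CohB1.tensorMod N D) = PicF.cl N * PicF.cl D from rfl, pow_succ', Units.val_mul,
          mul_assoc, ← mul_assoc (PicF.cl D), hσ, mul_comm (PicF.cl D),
          show PicF.cl (ptI P hP) * PicF.cl D = 1 from cl_congr eD, one_mul, hc]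
      · rw [Groth.L21.Duality.deg_tensor (k := K) hd hN hD, hdN, hdD]
        push_cast
        rfl
  obtain ⟨N, hN, hcN, hdN⟩ := hrep n
  have hn' : 1 ≤ (n : ℤ) + Curv2.euler K X (Coh.structureModule X) := hn
  have hpos : 1 ≤ Groth.L21.RR.h K 0 N := by
    have h1 := hdN
    rw [Curv2.deg, Groth.L21.RR.euler_eq K hd.le (M := N)] at h1
    push_cast at h1
    omega
  haveI := Groth.L21.Duality.nontrivial_of_h0_pos (k := K) hpos
  obtain ⟨φ, hφ⟩ := Groth.L21.RR.exists_hom_ne_zero (L := N)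
  obtain ⟨p, hb, hp⟩ := exists_lift_pw τ σ n N hN hdN ⟨φ, hφ⟩
  exact ⟨p, hb, hp.trans hcN⟩

omit τ in
/-- The Euler characteristic of a geometric fibre. -/
theorem euler_extPt (s : S) [Algebra (S.residueField s) K] :
    @Curv2.euler K _ (PicF.XT f (Over.mk (extPt (S := S) s K))) ⟨PicF.XTproj f _⟩ (Coh.structureModule _) =
      Curv2.euler (S.residueField s) (f.fiber s) (Coh.structureModule (f.fiber s)) := by
  letI : (pullback f (extPt s K)).Over (Spec (CommRingCat.of K)) := ⟨pullback.snd f (extPt s K)⟩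
  haveI := isProper_fibre f s
  haveI : IsProper (pullback f (extPt s K) ↘ Spec (CommRingCat.of K)) :=
    inferInstanceAs (IsProper (pullback.snd f (extPt s K)))
  haveI := Groth.L21.RR.isNoetherian_of_proper (X := f.fiber s) (S.residueField s)
  show Curv2.euler K (pullback f (extPt s K)) (Coh.structureModule _) = _
  rw [← Groth.L21.RR.euler_pullback (K := K) (toFibre f s K) (isPullback_toFibre f s K)
    (Groth.L16.CohClosedPush.isCoh_structure (X := f.fiber s)),
    Groth.L21.RR.euler_congr K (Groth.L29.LocFree.pullbackUnitIso (toFibre f s K))]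

omit τ in
/-- Every point of `P₀` over `s` is the image of a point of a power. -/
theorem exists_pw_apply {P₀ : Over S} {φ₀ : ∀ T : Over S, PicF.Cl (PicF.XT f T) → (T ⟶ P₀)}
    (hP₀ : AbDual.IsRelPicZeroK Scheme.fppfPrecoverage f P₀ φ₀) (p : P₀.left) {n : ℕ}
    (hn : 1 ≤ (n : ℤ) + Curv2.euler (S.residueField (P₀.hom p)) (f.fiber (P₀.hom p)) (Coh.structureModule _)) :
    ∃ w, (φ₀ (pw f n) (pwCl (f := f) n : PicF.Cl (PicF.XT f (pw f n)))).left w = p := by
  let Ω := AlgebraicClosure (P₀.left.residueField p)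
  let x : Spec (CommRingCat.of Ω) ⟶ P₀.left :=
    Spec.map (CommRingCat.ofHom (algebraMap (P₀.left.residueField p) Ω)) ≫ P₀.left.fromSpecResidueField p
  have hx : x (IsLocalRing.closedPoint Ω) = p := by
    rw [Scheme.Hom.comp_apply]
    exact Scheme.fromSpecResidueField_apply p _
  letI : Algebra (S.residueField (P₀.hom p)) Ω :=
    ((algebraMap (P₀.left.residueField p) Ω).comp (P₀.hom.residueFieldMap p).hom).toAlgebra
  have hτ : x ≫ P₀.hom = extPt (P₀.hom p) Ω := by
    rw [extPt, RingHom.algebraMap_toAlgebra, CommRingCat.ofHom_comp, Spec.map_comp, Category.assoc, Category.assoc]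
    congr 1
    rw [CommRingCat.ofHom_hom]
    exact (Scheme.Hom.SpecMap_residueFieldMap_fromSpecResidueField P₀.hom p).symm
  let T : Over S := Over.mk (extPt (P₀.hom p) Ω)
  let g : T ⟶ P₀ := Over.homMk x hτ
  obtain ⟨R, hR, hloc⟩ := hP₀.locallySurjective T g
  obtain ⟨_, _, ⟨hu⟩, u₀, -⟩ := hR.1 (IsLocalRing.closedPoint Ω : T.left)
  rename_i U u
  obtain ⟨c, hc, hφc⟩ := hloc u hu
  haveI : LocallyOfFinitePresentation u := (hR.2 hu).2
  haveI : JacobsonSpace ↥U :=
    LocallyOfFiniteType.jacobsonSpace (Y := Spec (CommRingCat.of Ω)) u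
  obtain ⟨P, -, hP⟩ := nonempty_inter_closedPoints (X := ↥U) (Z := Set.univ) ⟨u₀, trivial⟩ isOpen_univ.isLocallyClosed
  let v : Spec (CommRingCat.of Ω) ⟶ U := pointOfClosedPoint u P hP
  have hv : v ≫ u = 𝟙 _ := pointOfClosedPoint_comp u P hP
  let i : T ⟶ AbDual.ovr T u := Over.homMk v (by
    show v ≫ u ≫ T.hom = T.hom
    rw [← Category.assoc, hv, Category.id_comp])
  have hi : i ≫ AbDual.ovrHom T u = 𝟙 T := Over.OverMorphism.ext hv
  have hzero := isPicZeroCl_XTmap f i hc
  have hg : φ₀ T (PicF.pullCl (PicF.XTmap f i) c) = g := by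
    rw [hP₀.natural _ _ i c hc, hφc, ← Category.assoc, hi, Category.id_comp]
  haveI : LocallyOfFiniteType (PicF.XTproj f T) := inferInstanceAs (LocallyOfFiniteType (pullback.snd f T.hom))
  haveI : Surjective (PicF.XTproj f T) := inferInstanceAs (Surjective (pullback.snd f T.hom))
  obtain ⟨x₁, -⟩ := (PicF.XTproj f T).surjective (IsLocalRing.closedPoint Ω : T.left)
  haveI : JacobsonSpace ↥(PicF.XT f T) :=
    LocallyOfFiniteType.jacobsonSpace (Y := Spec (CommRingCat.of Ω)) (PicF.XTproj f T)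
  obtain ⟨P₁, -, hP₁⟩ := nonempty_inter_closedPoints (X := ↥(PicF.XT f T)) (Z := Set.univ) ⟨x₁, trivial⟩
    isOpen_univ.isLocallyClosed
  let σ : Over.mk (extPt (P₀.hom p) Ω) ⟶ Over.mk f :=
    ptOf (T := Over.mk (extPt (P₀.hom p) Ω))
      (pointOfClosedPoint (K := Ω) (X := PicF.XT f T) (PicF.XTproj f T) P₁ hP₁) (pointOfClosedPoint_comp _ _ _)
  obtain ⟨w, -, hw⟩ := exists_pw_of_isPicZeroCl (f := f) (extPt (P₀.hom p) Ω) hzero σ (n := n)
    (by rw [euler_extPt]; exact hn)
  refine ⟨w.left (IsLocalRing.closedPoint Ω), ?_⟩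
  have h := congrArg CommaMorphism.left ((hP₀.natural _ _ w _ (isPicZeroCl_pwCl n)).symm.trans
    ((congrArg (φ₀ T) hw).trans hg))
  exact ((Scheme.Hom.comp_apply _ _ _).symm.trans (congrArg (fun k => (k : T.left ⟶ P₀.left) (IsLocalRing.closedPoint Ω)) h)).trans hx

end Groth.Agent.L26.PicSm
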