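import Groth.Prelude.Def_AbDual
import Groth.Prelude.Def_PicRel2
import Groth.Agent.S12404

set_option autoImplicit false
universe u
open CategoryTheory CategoryTheory.Limits AlgebraicGeometry

/-!
Representing schemes of the sheafified relative Picard functor commute with base change.
-/
namespace Groth.Agent.L26.PicSm

variable {X S S' : Scheme.{u}} (f : X ⟶ S) (g : S' ⟶ S)

/-- An `S'`-scheme regarded as an `S`-scheme. -/
noncomputable abbrev res (T : Over S') : Over S := Over.mk (T.hom ≫ g)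

/-- A morphism of `S'`-schemes regarded as a morphism of `S`-schemes. -/
noncomputable abbrev resMap {T T' : Over S'} (h : T' ⟶ T) : res g T' ⟶ res g T :=
  Over.homMk h.left (by simp)

/-- `(X ×_S S') ×_{S'} T ≅ X ×_S T`. -/
noncomputable abbrev eT (T : Over S') : PicF.XT (pullback.snd f g) T ≅ PicF.XT f (res g T) :=
  pullbackLeftPullbackSndIso f g T.hom

theorem XTmap_eT {T T' : Over S'} (h : T' ⟶ T) :
    (eT f g T').inv ≫ PicF.XTmap (pullback.snd f g) h = PicF.XTmap f (resMap g h) ≫ (eT f g T).inv := by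
  rw [Iso.inv_comp_eq, ← Category.assoc, Iso.eq_comp_inv]
  have e₁ : ∀ U : Over S', (eT f g U).hom ≫ pullback.fst f (res g U).hom =
      pullback.fst (pullback.snd f g) U.hom ≫ pullback.fst f g := fun U =>
    pullbackLeftPullbackSndIso_hom_fst f g U.hom
  have e₂ : ∀ U : Over S', (eT f g U).hom ≫ pullback.snd f (res g U).hom =
      pullback.snd (pullback.snd f g) U.hom := fun U =>
    pullbackLeftPullbackSndIso_hom_snd f g U.hom
  refine pullback.hom_ext ?_ ?_
  · rw [Category.assoc, Category.assoc, e₁, ← Category.assoc, Groth.Agent.AbDualLib.XTmap_fst,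
      Groth.Agent.AbDualLib.XTmap_fst, e₁]
  · rw [Category.assoc, Category.assoc, e₂, Groth.Agent.AbDualLib.XTmap_snd, Groth.Agent.AbDualLib.XTmap_snd,
      ← Category.assoc, e₂]
    rfl

variable (P : Over S) (φ : ∀ T : Over S, PicF.Cl (PicF.XT f T) → (T ⟶ P))

/-- The base changed family of maps. -/
noncomputable abbrev phiBC : ∀ T : Over S', PicF.Cl (PicF.XT (pullback.snd f g) T) →
    (T ⟶ Over.mk (pullback.snd P.hom g)) := fun T c => Over.homMk
  (pullback.lift (φ (Over.mk (T.hom ≫ g)) (PicF.pullCl (pullbackLeftPullbackSndIso f g T.hom).inv c)).left T.hom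
    (Over.w (φ (Over.mk (T.hom ≫ g)) (PicF.pullCl (pullbackLeftPullbackSndIso f g T.hom).inv c))))
  (pullback.lift_snd _ _ _)

theorem phiBC_fst (T : Over S') (c : PicF.Cl (PicF.XT (pullback.snd f g) T)) :
    (phiBC f g P φ T c).left ≫ pullback.fst P.hom g = (φ (res g T) (PicF.pullCl (eT f g T).inv c)).left :=
  pullback.lift_fst _ _ _

theorem bc_natural
    (hnat : ∀ (T T' : Over S) (k : T' ⟶ T) (c : PicF.Cl (PicF.XT f T)), PicF.IsInvertibleCl c →
      φ T' (PicF.pullCl (PicF.XTmap f k) c) = k ≫ φ T c)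
    (T T' : Over S') (k : T' ⟶ T) (c : PicF.Cl (PicF.XT (pullback.snd f g) T)) (hc : PicF.IsInvertibleCl c) :
    phiBC f g P φ T' (PicF.pullCl (PicF.XTmap (pullback.snd f g) k) c) = k ≫ phiBC f g P φ T c := by
  refine Over.OverMorphism.ext (pullback.hom_ext ?_ ?_)
  · rw [phiBC_fst, ← PicLoc.pullCl_comp, XTmap_eT, PicLoc.pullCl_comp,
      hnat _ _ _ _ (PicLoc.isInvertibleCl_pullCl _ hc), Over.comp_left, Over.comp_left, Category.assoc, phiBC_fst]
    rfl
  · simp only [Over.homMk_left, Over.comp_left, Category.assoc]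
    erw [pullback.lift_snd, pullback.lift_snd]
    exact (Over.w k).symm

theorem bc_surj
    (hnat : ∀ (T T' : Over S) (k : T' ⟶ T) (c : PicF.Cl (PicF.XT f T)), PicF.IsInvertibleCl c →
      φ T' (PicF.pullCl (PicF.XTmap f k) c) = k ≫ φ T c)
    (T : Over S') (h : T ⟶ Over.mk (pullback.snd P.hom g)) {h' : res g T ⟶ P}
    (hh' : h'.left = h.left ≫ pullback.fst P.hom g) {U : Over S'} (u : U ⟶ T) {V : Over S} (v : V ⟶ res g T)
    (k : res g U ⟶ V) (hk : k ≫ v = resMap g u) {c : PicF.Cl (PicF.XT f V)} (hc : PicF.IsInvertibleCl c)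
    (hφ : φ V c = v ≫ h') :
    ∃ c' : PicF.Cl (PicF.XT (pullback.snd f g) U), PicF.IsInvertibleCl c' ∧ phiBC f g P φ U c' = u ≫ h := by
  refine ⟨PicF.pullCl (eT f g U).hom (PicF.pullCl (PicF.XTmap f k) c),
    PicLoc.isInvertibleCl_pullCl _ (PicLoc.isInvertibleCl_pullCl _ hc), ?_⟩
  refine Over.OverMorphism.ext (pullback.hom_ext ?_ ?_)
  · rw [phiBC_fst, ← PicLoc.pullCl_comp, Iso.inv_hom_id, PicLoc.pullCl_id, hnat _ _ _ _ hc, hφ,
      ← Category.assoc, hk, Over.comp_left, hh']
    simp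
  · simp only [Over.homMk_left, Category.assoc, Over.comp_left]
    erw [pullback.lift_snd]
    exact (by simpa using (Over.w (u ≫ h)).symm)

theorem bc_inj (T : Over S') {c c' : PicF.Cl (PicF.XT (pullback.snd f g) T)}
    (hh : phiBC f g P φ T c = phiBC f g P φ T c') :
    φ (res g T) (PicF.pullCl (eT f g T).inv c) = φ (res g T) (PicF.pullCl (eT f g T).inv c') := by
  refine Over.OverMorphism.ext ?_
  rw [← phiBC_fst, ← phiBC_fst, hh]

theorem bc_inj_loc {T U : Over S'} (u : U ⟶ T) {V : Over S} (v : V ⟶ res g T)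
    (k : res g U ⟶ V) (hk : k ≫ v = resMap g u) {c c' : PicF.Cl (PicF.XT (pullback.snd f g) T)}
    (h : PicF.pullCl (PicF.XTmap f v) (PicF.pullCl (eT f g T).inv c) =
      PicF.pullCl (PicF.XTmap f v) (PicF.pullCl (eT f g T).inv c')) :
    PicF.pullCl (PicF.XTmap (pullback.snd f g) u) c = PicF.pullCl (PicF.XTmap (pullback.snd f g) u) c' := by
  have e : PicF.XTmap (pullback.snd f g) u =
      ((eT f g U).hom ≫ PicF.XTmap f k) ≫ PicF.XTmap f v ≫ (eT f g T).inv := by
    rw [Category.assoc, ← Category.assoc (PicF.XTmap f k), ← Groth.Agent.AbDualLib.XTmap_comp, hk, ← XTmap_eT,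
      Iso.hom_inv_id_assoc]
  rw [e]
  simp only [PicLoc.pullCl_comp]
  rw [h]

/-- Fppf (or any) sheafified version. -/
theorem isRelPicK_baseChange {K : Precoverage Scheme.{u}} (hP : AbDual.IsRelPicK K f P φ) :
    AbDual.IsRelPicK K (pullback.snd f g) (Over.mk (pullback.snd P.hom g)) (phiBC f g P φ) where
  natural T T' k c hc := bc_natural f g P φ hP.natural T T' k c hc
  locallySurjective T h := by
    let h' : res g T ⟶ P := Over.homMk (h.left ≫ pullback.fst P.hom g)
      (by rw [Category.assoc, pullback.condition, ← Category.assoc]; exact congrArg (· ≫ g) (Over.w h))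
    obtain ⟨R, hR, hc⟩ := hP.locallySurjective (res g T) h'
    refine ⟨R, hR, fun U u hu => ?_⟩
    obtain ⟨c, hci, hφ⟩ := hc u hu
    exact bc_surj f g P φ hP.natural T h rfl (AbDual.ovrHom T u) (AbDual.ovrHom (res g T) u)
      (Over.homMk (𝟙 U) (by simp)) (by ext; simp) hci hφ
  locallyInjective T c c' hc hc' hh := by
    obtain ⟨R, hR, hloc⟩ := hP.locallyInjective (res g T) _ _ (PicLoc.isInvertibleCl_pullCl _ hc)
      (PicLoc.isInvertibleCl_pullCl _ hc') (bc_inj f g P φ T hh)
    refine ⟨R, hR, fun U u hu => ?_⟩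
    exact bc_inj_loc f g (AbDual.ovrHom T u) (AbDual.ovrHom (res g T) u)
      (Over.homMk (𝟙 U) (by simp)) (by ext; simp) (hloc u hu)

/-- Etale sheafified version. -/
theorem isRelPic_baseChange (hP : PicRel.IsRelPic f P φ) :
    PicRel.IsRelPic (pullback.snd f g) (Over.mk (pullback.snd P.hom g)) (phiBC f g P φ) where
  natural T T' k c hc := bc_natural f g P φ hP.natural T T' k c hc
  locallySurjective T h := by
    let h' : res g T ⟶ P := Over.homMk (h.left ≫ pullback.fst P.hom g)
      (by rw [Category.assoc, pullback.condition, ← Category.assoc]; exact congrArg (· ≫ g) (Over.w h))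
    obtain ⟨ι, U, hU, hc⟩ := hP.locallySurjective (res g T) h'
    refine ⟨ι, U, hU, fun i => ?_⟩
    obtain ⟨c, hci, hφ⟩ := hc i
    exact bc_surj f g P φ hP.natural T h rfl (PicRel.ovrHom T (U i)) (PicRel.ovrHom (res g T) (U i))
      (Over.homMk (𝟙 _) (by simp)) (by ext; simp) hci hφ
  locallyInjective T c c' hc hc' hh := by
    obtain ⟨ι, U, hU, hloc⟩ := hP.locallyInjective (res g T) _ _ (PicLoc.isInvertibleCl_pullCl _ hc)
      (PicLoc.isInvertibleCl_pullCl _ hc') (bc_inj f g P φ T hh)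
    refine ⟨ι, U, hU, fun i => ?_⟩
    exact bc_inj_loc f g (PicRel.ovrHom T (U i)) (PicRel.ovrHom (res g T) (U i))
      (Over.homMk (𝟙 _) (by simp)) (by ext; simp) (hloc i)

end Groth.Agent.L26.PicSm
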